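import Groth.Agent.TFun.Exact
import Mathlib.RingTheory.Localization.BaseChange
import Mathlib.Algebra.Homology.HomologySequence
import Mathlib.Algebra.Homology.HomologicalComplexAbelian

/-! Bounded below complexes of flat modules with finitely generated homology. -/

universe u

open CategoryTheory CategoryTheory.Limits TensorProduct HomologicalComplex Function Topology

namespace Groth.Agent.TFun

variable {A : Type u} [CommRing A] (P : ChainComplex (ModuleCat.{u} A) ℤ)

theorem flat_coker_of_isZero (r p : ℤ) (h : IsZero (P.X p)) : Module.Flat A (coker P r p) := by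
  have : Subsingleton (P.X p) := ModuleCat.isZero_iff_subsingleton.1 h
  have : Subsingleton (coker P r p) := (Submodule.mkQ_surjective _).subsingleton
  exact inferInstance

theorem flat_coker_of_flat_homology (hP : ∀ i, Module.Flat A (P.X i)) (i₀ : ℤ)
    (hb : ∀ i < i₀, IsZero (P.X i)) (N : ℤ) (h : ∀ n ≤ N, Module.Flat A (P.homology n))
    {n : ℤ} (hn : n ≤ N) : Module.Flat A (coker P (n + 1) n) := by
  obtain hlt | hle := lt_or_ge n i₀
  · exact flat_coker_of_isZero P _ _ (hb n hlt)
  revert hn
  induction n, (show i₀ - 1 ≤ n by omega) using Int.leInduction with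
  | base => intro; exact flat_coker_of_isZero P _ _ (hb _ (by omega))
  | succ m hm ih =>
    intro hn
    refine flat_coker P (q := m) rfl rfl (hP m) (h _ hn) ?_
    by_cases hlt : m < i₀
    · exact flat_coker_of_isZero P _ _ (hb m hlt)
    · exact ih (by omega) (by omega)

theorem exact_of_flat_homology (hP : ∀ i, Module.Flat A (P.X i)) (i₀ : ℤ)
    (hb : ∀ i < i₀, IsZero (P.X i)) (N : ℤ) (h : ∀ n ≤ N, Module.Flat A (P.homology n))
    {n : ℤ} (hn : n ≤ N) :
    (CohIII.TFun P n).PreservesMonomorphisms ∧ (CohIII.TFun P n).PreservesEpimorphisms := by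
  rw [exact_iff_epi_and_flat P hP, preservesEpi_iff P hP (sub_add_cancel n 1)]
  refine ⟨?_, h n hn⟩
  have := flat_coker_of_flat_homology P hP i₀ hb N h (show n - 1 ≤ N by omega)
  rwa [sub_add_cancel] at this

theorem isZero_bc {B : Type u} [CommRing B] (φ : A →+* B) {i : ℤ} (h : IsZero (P.X i)) :
    IsZero ((CohIII.bcCx φ P).X i) := by
  let _ := φ.toAlgebra
  have : Subsingleton (P.X i) := ModuleCat.isZero_iff_subsingleton.1 h
  have : Subsingleton (B ⊗[A] P.X i) := subsingleton_of_forall_eq 0 fun z => by
    induction z using TensorProduct.induction_on with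
    | zero => rfl
    | tmul a b => rw [Subsingleton.elim b 0, tmul_zero]
    | add a b ha hb => rw [ha, hb, add_zero]
  exact ModuleCat.isZero_iff_subsingleton.2 this

theorem finitePresentation_homology
    (hfp : ∀ n : ℤ, Module.FinitePresentation A (CohIII.T P n (ModuleCat.of A A))) (n : ℤ) :
    Module.FinitePresentation A (P.homology n) :=
  have : Module.FinitePresentation A ((CohIII.TFun P n).obj (ModuleCat.of A A)) := hfp n
  Module.FinitePresentation.of_equiv (obj_self P)

/-- Over a domain, a finitely presented module is free near the generic point. -/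
theorem exists_flat_away [IsDomain A] {ι : Type} [Finite ι] (H : ι → Type u)
    [∀ i, AddCommGroup (H i)] [∀ i, Module A (H i)] [∀ i, Module.FinitePresentation A (H i)] :
    ∃ f : A, f ≠ 0 ∧ ∀ i, Module.Flat (Localization.Away f) (Localization.Away f ⊗[A] H i) := by
  let η : PrimeSpectrum A := ⟨⊥, Ideal.isPrime_bot⟩
  have hloc : IsLocalization.AtPrime (FractionRing A) η.asIdeal := by
    have h : η.asIdeal.primeCompl = nonZeroDivisors A := by
      ext a
      simp [η, Ideal.primeCompl]
    unfold IsLocalization.AtPrime
    rw [h]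
    infer_instance
  have hη : ∀ i, η ∈ Module.freeLocus A (H i) := fun i => by
    rw [Module.mem_freeLocus_iff_tensor η (FractionRing A)]
    infer_instance
  obtain ⟨_, ⟨f, rfl⟩, hf, hfU⟩ :=
    PrimeSpectrum.isTopologicalBasis_basic_opens.exists_subset_of_mem_open
      (show η ∈ ⋂ i, Module.freeLocus A (H i) from Set.mem_iInter.2 hη)
      (isOpen_iInter_of_finite fun i => Module.isOpen_freeLocus)
  refine ⟨f, fun h => hf (by simp [h]), fun i => ?_⟩
  have := Module.basicOpen_subset_freeLocus_iff.1 (hfU.trans (Set.iInter_subset _ i))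
  exact Module.Flat.of_linearEquiv (LocalizedModule.equivTensorProduct (Submonoid.powers f) (H i)).symm

theorem exists_away_exact [IsDomain A] (hP : ∀ i, Module.Flat A (P.X i)) (i₀ : ℤ)
    (hb : ∀ i < i₀, IsZero (P.X i)) (hfp : ∀ n, Module.FinitePresentation A (P.homology n))
    (N : ℤ) :
    ∃ f : A, f ≠ 0 ∧ ∀ p ≤ N,
      (CohIII.TFun (CohIII.bcCx (algebraMap A (Localization.Away f)) P) p).PreservesMonomorphisms ∧
        (CohIII.TFun (CohIII.bcCx (algebraMap A (Localization.Away f)) P) p).PreservesEpimorphisms := by
  have : ∀ j : Fin (N + 1 - i₀).toNat, Module.FinitePresentation A (P.homology (i₀ + j)) :=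
    fun j => hfp _
  obtain ⟨f, hf, hflat⟩ := exists_flat_away (A := A)
    (fun j : Fin (N + 1 - i₀).toNat => P.homology (i₀ + (j : ℤ)))
  refine ⟨f, hf, fun p hp => exact_of_flat_homology _ (flat_bc_X P _ hP) i₀
    (fun i hi => isZero_bc P _ (hb i hi)) N (fun n hn => ?_) hp⟩
  obtain hlt | hle := lt_or_ge n i₀
  · have : Subsingleton ((CohIII.bcCx (algebraMap A (Localization.Away f)) P).homology n) :=
      ModuleCat.isZero_iff_subsingleton.1 (ExactAt.isZero_homology
        (ExactAt.of_isZero (isZero_bc P _ (hb n hlt))))
    infer_instance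
  · obtain ⟨j, hj⟩ : ∃ j : ℕ, n = i₀ + j := ⟨(n - i₀).toNat, by omega⟩
    subst hj
    have := hflat ⟨j, by omega⟩
    exact Module.Flat.of_linearEquiv (nonempty_homology_bc_equiv P (Localization.Away f)
      (r := i₀ + (j : ℤ) + 1) rfl (sub_add_cancel _ 1) (hP _) (.inl inferInstance)).some

/-- For a bounded below flat complex with finitely generated homology all `T_n(M)`, `M` finite, are
finite. -/
theorem finite_T [IsNoetherianRing A] (hP : ∀ i, Module.Flat A (P.X i)) (i₀ : ℤ)
    (hb : ∀ i < i₀, IsZero (P.X i)) (hfg : ∀ n, Module.Finite A (P.homology n)) (n : ℤ)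
    (M : Type u) [AddCommGroup M] [Module A M] [Module.Finite A M] :
    Module.Finite A ((CohIII.TFun P n).obj (ModuleCat.of A M)) := by
  have hzero : ∀ n < i₀, ∀ (M : Type u) [AddCommGroup M] [Module A M],
      Module.Finite A ((CohIII.TFun P n).obj (ModuleCat.of A M)) := by
    intro n hn M _ _
    have : Subsingleton (P.X n) := ModuleCat.isZero_iff_subsingleton.1 (hb n hn)
    have : Subsingleton (coker P (n + 1) n) := (Submodule.mkQ_surjective _).subsingleton
    have : Subsingleton (coker P (n + 1) n ⊗[A] M) := subsingleton_of_forall_eq 0 fun z => by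
      induction z using TensorProduct.induction_on with
      | zero => rfl
      | tmul a b => rw [Subsingleton.elim a 0, zero_tmul]
      | add a b ha hb => rw [ha, hb, add_zero]
    have := (tι_injective P (r := n + 1) rfl (ModuleCat.of A M)).subsingleton
    infer_instance
  obtain hlt | hle := lt_or_ge n i₀
  · exact hzero n hlt M
  revert M
  induction n, (show i₀ - 1 ≤ n by omega) using Int.leInduction with
  | base => intro M _ _ _; exact hzero _ (by omega) M
  | succ m hm ih =>
    intro M _ _ _
    obtain ⟨k, g, hg⟩ := Module.Finite.exists_fin' A M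
    let K := LinearMap.ker g
    have hK : Module.Finite A ((CohIII.TFun P m).obj (ModuleCat.of A K)) := by
      by_cases hlt : m < i₀
      · exact hzero m hlt K
      · exact ih (by omega) K
    have hF : Module.Finite A ((CohIII.TFun P (m + 1)).obj (ModuleCat.of A (Fin k → A))) := by
      have hflat : Module.Flat A (Fin k → A) := inferInstance
      obtain ⟨e, -⟩ := exists_obj_equiv_tensor P (r := m + 1 + 1) rfl (sub_add_cancel _ 1) (hP _)
        (ModuleCat.of A (Fin k → A)) (.inl hflat)
      have := hfg (m + 1)
      have : Module.Finite A (P.homology (m + 1) ⊗[A] (ModuleCat.of A (Fin k → A) : ModuleCat.{u} A)) :=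
        inferInstanceAs (Module.Finite A (P.homology (m + 1) ⊗[A] (Fin k → A)))
      exact Module.Finite.equiv e.symm
    let i : ModuleCat.of A K ⟶ ModuleCat.of A (Fin k → A) := ModuleCat.ofHom K.subtype
    let π : ModuleCat.of A (Fin k → A) ⟶ ModuleCat.of A M := ModuleCat.ofHom g
    have w : CohIII.tensorMap P i ≫ CohIII.tensorMap P π = 0 := by
      ext j : 1
      ext x : 1
      refine TensorProduct.ext' fun a b => ?_
      change a ⊗ₜ[A] g b.1 = 0
      rw [show g b.1 = 0 from b.2, tmul_zero]
    let S := ShortComplex.mk (CohIII.tensorMap P i) (CohIII.tensorMap P π) w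
    have hS : S.ShortExact := by
      refine shortExact_of_degreewise_shortExact _ fun j => ?_
      have := hP j
      exact
        { exact := (ShortComplex.ShortExact.moduleCat_exact_iff_function_exact _).mpr
            (lTensor_exact (P.X j) g.exact_subtype_ker_map hg)
          mono_f := (ModuleCat.mono_iff_injective _).2
            (Module.Flat.lTensor_preserves_injective_linearMap _ Subtype.val_injective)
          epi_g := (ModuleCat.epi_iff_surjective _).2 (LinearMap.lTensor_surjective _ hg) }
    have hrel : (ComplexShape.down ℤ).Rel (m + 1) m := rfl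
    have hex := (ShortComplex.ShortExact.moduleCat_exact_iff_function_exact _).mp
      (hS.homology_exact₃ (m + 1) m hrel)
    have h1 : IsNoetherian A ((CohIII.TFun P (m + 1)).obj (ModuleCat.of A (Fin k → A))) :=
      inferInstance
    have h2 : IsNoetherian A ((CohIII.TFun P m).obj (ModuleCat.of A K)) := inferInstance
    have h1' : IsNoetherian A (S.X₂.homology (m + 1)) := h1
    have h2' : IsNoetherian A (S.X₁.homology m) := h2
    have h3 : IsNoetherian A (S.X₃.homology (m + 1)) :=
      isNoetherian_of_range_eq_ker _ _ hex.linearMap_ker_eq.symm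
    have h3' : IsNoetherian A ((CohIII.TFun P (m + 1)).obj (ModuleCat.of A M)) := h3
    infer_instance

/-- Over a reduced local ring, a module with the same fibre dimension at the closed and at the
minimal points is free. -/
theorem free_of_fibreDim_minimalPrimes [IsLocalRing A] [IsReduced A] (M : Type u) [AddCommGroup M]
    [Module A M] [Module.Finite A M]
    (h : ∀ x : PrimeSpectrum A, x.asIdeal ∈ minimalPrimes A →
      fibreDim M x = fibreDim M (IsLocalRing.closedPoint A)) :
    Module.Free A M := by
  obtain ⟨v, hv⟩ := exists_generators M (IsLocalRing.closedPoint A)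
  have hQ : ∀ y : PrimeSpectrum A, y ∉ Module.support A (M ⧸ LinearMap.range v) := fun y =>
    mem_of_isOpen_closedPoint Module.isClosed_support.isOpen_compl hv y
  have hsurj : Surjective v := by
    have : Subsingleton (M ⧸ LinearMap.range v) :=
      Module.support_eq_empty_iff.1 (Set.eq_empty_of_forall_notMem hQ)
    rw [← LinearMap.range_eq_top]
    exact Submodule.Quotient.subsingleton_iff.1 this
  generalize hn : fibreDim M (IsLocalRing.closedPoint A) = n at v h hsurj
  refine Module.Free.of_equiv (LinearEquiv.ofBijective v ⟨?_, hsurj⟩)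
  rw [injective_iff_map_eq_zero]
  intro c hc
  ext i
  have : c i ∈ sInf (minimalPrimes A) := by
    rw [Submodule.mem_sInf]
    intro (P : Ideal A) hP
    have : P.IsPrime := hP.1.1
    let κ := P.ResidueField
    have hs : Surjective (v.baseChange κ) := LinearMap.lTensor_surjective _ hsurj
    have hdim : Module.finrank κ (κ ⊗[A] (Fin n → A)) = Module.finrank κ (κ ⊗[A] M) := by
      rw [(TensorProduct.piScalarRight A κ κ (Fin n)).finrank_eq, Module.finrank_pi,
        Fintype.card_fin]
      exact (h ⟨P, this⟩ hP).symm
    have hi : Injective (v.baseChange κ) :=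
      (LinearMap.injective_iff_surjective_of_finrank_eq_finrank hdim).2 hs
    have h0 : (1 : κ) ⊗ₜ[A] c = 0 := hi (by
      rw [map_zero, LinearMap.baseChange_tmul, hc, tmul_zero])
    have h1 : algebraMap A κ (c i) = 0 := by
      have := congr(TensorProduct.piScalarRight A κ κ (Fin n) $h0 i)
      simpa [Algebra.smul_def] using this
    exact Ideal.algebraMap_residueField_eq_zero.1 h1
  change c i ∈ sInf (⊥ : Ideal A).minimalPrimes at this
  rw [Ideal.sInf_minimalPrimes, show (⊥ : Ideal A).radical = nilradical A from rfl] at this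
  simpa [nilradical_eq_zero] using this

end Groth.Agent.TFun
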