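import Groth.Agent.TFun.Cx
import Mathlib.RingTheory.Flat.Equalizer
import Mathlib.RingTheory.Noetherian.Basic

/-! Short exact sequences of flat modules; homology as the kernel of `coker → P_{p-1}`. -/

universe u

open CategoryTheory CategoryTheory.Limits TensorProduct HomologicalComplex Function

namespace Groth.Agent.TFun

section ses

variable {A : Type u} [CommRing A] {M N Q : Type u} [AddCommGroup M] [Module A M] [AddCommGroup N]
  [Module A N] [AddCommGroup Q] [Module A Q] {g : M →ₗ[A] N} {f : N →ₗ[A] Q}

/-- `0 → M → N → Q → 0` with `N`, `Q` flat has `M` flat. -/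
theorem flat_left (hg : Injective g) (H : Exact g f) (hf : Surjective f) [Module.Flat A N]
    [Module.Flat A Q] : Module.Flat A M := by
  refine Module.Flat.iff_rTensor_preserves_injective_linearMap.2 fun X Y _ _ _ _ φ hφ => ?_
  have : Injective (φ.rTensor N ∘ₗ g.lTensor X) := by
    rw [LinearMap.coe_comp]
    exact (Module.Flat.rTensor_preserves_injective_linearMap φ hφ).comp
      (LinearMap.lTensor_injective_of_exact_of_flat f hf g hg H X)
  rw [LinearMap.rTensor_comp_lTensor, ← LinearMap.lTensor_comp_rTensor, LinearMap.coe_comp] at this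
  exact this.of_comp

/-- `0 → M → N → Q → 0` with `M`, `Q` flat has `N` flat. -/
theorem flat_middle (hg : Injective g) (H : Exact g f) (hf : Surjective f) [Module.Flat A M]
    [Module.Flat A Q] : Module.Flat A N := by
  refine Module.Flat.iff_rTensor_preserves_injective_linearMap.2 fun X Y _ _ _ _ φ hφ => ?_
  rw [injective_iff_map_eq_zero]
  intro z hz
  have h1 : f.lTensor X z = 0 := by
    apply Module.Flat.rTensor_preserves_injective_linearMap (M := Q) φ hφ
    rw [comm, hz, map_zero, map_zero]
  obtain ⟨w, rfl⟩ := (lTensor_exact X H hf z).1 h1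
  rw [comm] at hz
  have h2 : φ.rTensor M w = 0 :=
    LinearMap.lTensor_injective_of_exact_of_flat f hf g hg H Y (by rw [hz, map_zero])
  rw [Module.Flat.rTensor_preserves_injective_linearMap (M := M) φ hφ (h2.trans (map_zero _).symm),
    map_zero]

end ses

section homology

variable {R : Type u} [CommRing R] (K : ChainComplex (ModuleCat.{u} R) ℤ) {r p q : ℤ}

/-- The map `K_p / im d → K_{p-1}` induced by the differential. -/
def toPred (r p q : ℤ) : (K.X p ⧸ LinearMap.range (K.d r p).hom) →ₗ[R] K.X q :=
  (LinearMap.range (K.d r p).hom).liftQ (K.d p q).hom (LinearMap.range_le_ker_iff.2 (d_d K))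

@[simp] theorem toPred_mk (x : K.X p) :
    toPred K r p q (Submodule.Quotient.mk x) = K.d p q x := rfl

theorem range_toPred : LinearMap.range (toPred K r p q) = LinearMap.range (K.d p q).hom :=
  Submodule.range_liftQ _ _ _

/-- cycles to `K_p / im d` -/
noncomputable def cyclesToCoker (r p : ℤ) : K.cycles p →ₗ[R] (K.X p ⧸ LinearMap.range (K.d r p).hom) :=
  (LinearMap.range (K.d r p).hom).mkQ ∘ₗ (K.iCycles p).hom

/-- `H_p → K_p / im d` -/
noncomputable def homologyToCoker (hrp : p + 1 = r) :
    K.homology p →ₗ[R] (K.X p ⧸ LinearMap.range (K.d r p).hom) :=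
  (LinearMap.ker (K.homologyπ p).hom).liftQ (cyclesToCoker K r p) (fun z hz => by
      rw [LinearMap.mem_ker, cyclesToCoker, LinearMap.comp_apply, Submodule.mkQ_apply,
        Submodule.Quotient.mk_eq_zero]
      exact (homologyπ_eq_zero_iff hrp z).1 hz)
    ∘ₗ ((K.homologyπ p).hom.quotKerEquivOfSurjective homologyπ_surjective).symm.toLinearMap

theorem homologyToCoker_π (hrp : p + 1 = r) (z : K.cycles p) :
    homologyToCoker K hrp (K.homologyπ p z) = Submodule.Quotient.mk (K.iCycles p z) := by
  have : ((K.homologyπ p).hom.quotKerEquivOfSurjective homologyπ_surjective).symm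
      (K.homologyπ p z) = Submodule.Quotient.mk z := by
    rw [LinearEquiv.symm_apply_eq]; rfl
  simp [homologyToCoker, this, cyclesToCoker]

theorem homologyToCoker_injective (hrp : p + 1 = r) : Injective (homologyToCoker K hrp) := by
  rw [injective_iff_map_eq_zero]
  intro a ha
  obtain ⟨z, rfl⟩ := homologyπ_surjective a
  rw [homologyToCoker_π, Submodule.Quotient.mk_eq_zero] at ha
  exact (homologyπ_eq_zero_iff hrp z).2 ha

theorem exact_homologyToCoker_toPred (hrp : p + 1 = r) (hpq : q + 1 = p) :
    Exact (homologyToCoker K hrp) (toPred K r p q) := by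
  intro c
  obtain ⟨x, rfl⟩ := Submodule.Quotient.mk_surjective _ c
  constructor
  · intro hx
    obtain ⟨z, rfl⟩ := exists_cycle hpq x hx
    exact ⟨_, homologyToCoker_π K hrp z⟩
  · rintro ⟨a, ha⟩
    obtain ⟨z, rfl⟩ := homologyπ_surjective a
    rw [← ha, homologyToCoker_π]
    exact d_iCycles z

theorem finite_homology [IsNoetherianRing R] [Module.Finite R (K.X p)] :
    Module.Finite R (K.homology p) :=
  have : Module.Finite R (K.cycles p) :=
    Module.Finite.of_injective (K.iCycles p).hom iCycles_injective
  Module.Finite.of_surjective (K.homologyπ p).hom homologyπ_surjective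

theorem exact_homologyToCoker_rangeRestrict (hrp : p + 1 = r) (hpq : q + 1 = p) :
    Exact (homologyToCoker K hrp) (toPred K r p q).rangeRestrict := fun c => by
  rw [← exact_homologyToCoker_toPred K hrp hpq c, ← LinearMap.mem_ker, LinearMap.ker_rangeRestrict,
    LinearMap.mem_ker]

/-- the image of the differential is flat when the next cokernel is -/
theorem flat_range_toPred (hX : Module.Flat R (K.X q))
    (h : Module.Flat R (K.X q ⧸ LinearMap.range (K.d p q).hom)) :
    Module.Flat R (LinearMap.range (toPred K r p q)) := by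
  rw [range_toPred]
  exact flat_left (g := (LinearMap.range (K.d p q).hom).subtype) Subtype.val_injective
    (LinearMap.exact_subtype_mkQ _) (Submodule.mkQ_surjective _)

theorem flat_homology (hrp : p + 1 = r) (hpq : q + 1 = p) (hX : Module.Flat R (K.X q))
    (h1 : Module.Flat R (K.X p ⧸ LinearMap.range (K.d r p).hom))
    (h2 : Module.Flat R (K.X q ⧸ LinearMap.range (K.d p q).hom)) :
    Module.Flat R (K.homology p) :=
  have := flat_range_toPred K (r := r) hX h2
  flat_left (homologyToCoker_injective K hrp) (exact_homologyToCoker_rangeRestrict K hrp hpq)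
    (toPred K r p q).surjective_rangeRestrict

theorem flat_coker (hrp : p + 1 = r) (hpq : q + 1 = p) (hX : Module.Flat R (K.X q))
    (h1 : Module.Flat R (K.homology p))
    (h2 : Module.Flat R (K.X q ⧸ LinearMap.range (K.d p q).hom)) :
    Module.Flat R (K.X p ⧸ LinearMap.range (K.d r p).hom) :=
  have := flat_range_toPred K (r := r) hX h2
  flat_middle (homologyToCoker_injective K hrp) (exact_homologyToCoker_rangeRestrict K hrp hpq)
    (toPred K r p q).surjective_rangeRestrict

end homology

section tfun

variable {A : Type u} [CommRing A] (P : ChainComplex (ModuleCat.{u} A) ℤ) {r p q : ℤ}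

/-- `P ⊗ A ≅ P` -/
noncomputable def tensorObjSelfIso : CohIII.tensorObj P (ModuleCat.of A A) ≅ P :=
  HomologicalComplex.Hom.isoOfComponents (fun i => (TensorProduct.rid A (P.X i)).toModuleIso)
    (fun i j _ => by
      ext x : 1
      refine TensorProduct.ext' (fun m a => ?_)
      change (P.d i j).hom (a • m) = a • (P.d i j).hom m
      rw [map_smul])

/-- `T_p(A) ≅ H_p(P)` -/
noncomputable def obj_self : ((CohIII.TFun P p).obj (ModuleCat.of A A)) ≃ₗ[A] P.homology p :=
  ((homologyFunctor _ _ p).mapIso (tensorObjSelfIso P)).toLinearEquiv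

theorem exact_iff_epi_and_flat (hP : ∀ i, Module.Flat A (P.X i)) :
    ((CohIII.TFun P p).PreservesMonomorphisms ∧ (CohIII.TFun P p).PreservesEpimorphisms) ↔
      ((CohIII.TFun P p).PreservesEpimorphisms ∧ Module.Flat A (P.homology p)) := by
  rw [preservesMono_iff P hP rfl, preservesEpi_iff P hP (sub_add_cancel p 1)]
  exact ⟨fun ⟨h1, h2⟩ => ⟨h2, flat_homology P rfl (sub_add_cancel p 1) (hP _) h1 h2⟩,
    fun ⟨h2, h1⟩ => ⟨flat_coker P rfl (sub_add_cancel p 1) (hP _) h1 h2, h2⟩⟩

variable [IsLocalRing A] (hP : ∀ i, Module.Finite A (P.X i) ∧ Module.Flat A (P.X i))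
include hP

theorem exists_retraction_of_isZero_residue (hrp : p + 1 = r) (hpq : q + 1 = p)
    (h : IsZero ((CohIII.TFun P p).obj (ModuleCat.of A (IsLocalRing.ResidueField A)))) :
    ∃ l' : P.X q →ₗ[A] coker P r p, l' ∘ₗ toPred P r p q = LinearMap.id := by
  have := (hP p).1
  have := (hP q).1
  have := (hP q).2
  have : Module.Free A (P.X q) := Module.free_of_flat_of_isLocalRing
  rw [IsLocalRing.split_injective_iff_lTensor_residueField_injective,
    LinearMap.lTensor_inj_iff_rTensor_inj, injective_iff_map_eq_zero]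
  intro z hz
  obtain ⟨y, rfl⟩ := LinearMap.rTensor_surjective _ (Submodule.mkQ_surjective _) z
  rw [← LinearMap.comp_apply, ← LinearMap.rTensor_comp] at hz
  rw [mkQ_rTensor_eq_zero_iff]
  exact (isZero_obj_iff P hrp hpq _).1 h y hz

theorem flat_coker_of_isZero_residue (hrp : p + 1 = r) (hpq : q + 1 = p)
    (h : IsZero ((CohIII.TFun P p).obj (ModuleCat.of A (IsLocalRing.ResidueField A)))) :
    Module.Flat A (coker P r p) := by
  obtain ⟨l', hl'⟩ := exists_retraction_of_isZero_residue P hP hrp hpq h
  have := (hP q).2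
  exact Module.Flat.of_retract _ _ hl'

theorem isZero_of_isZero_residue (hrp : p + 1 = r) (hpq : q + 1 = p)
    (h : IsZero ((CohIII.TFun P p).obj (ModuleCat.of A (IsLocalRing.ResidueField A))))
    (M : ModuleCat.{u} A) : IsZero ((CohIII.TFun P p).obj M) := by
  obtain ⟨l', hl'⟩ := exists_retraction_of_isZero_residue P hP hrp hpq h
  rw [isZero_obj_iff P hrp hpq]
  intro y hy
  rw [← mkQ_rTensor_eq_zero_iff]
  calc (LinearMap.range (P.d r p).hom).mkQ.rTensor M y
      = (l' ∘ₗ toPred P r p q).rTensor M ((LinearMap.range (P.d r p).hom).mkQ.rTensor M y) := by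
        rw [hl', LinearMap.rTensor_id]; rfl
    _ = l'.rTensor M ((P.d p q).hom.rTensor M y) := by
        rw [← LinearMap.comp_apply, ← LinearMap.rTensor_comp, LinearMap.comp_assoc,
          LinearMap.rTensor_comp]; rfl
    _ = 0 := by rw [hy, map_zero]

end tfun

end Groth.Agent.TFun
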