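import Groth.Agent.TFun.Rank
import Groth.Agent.TFun.Flat
import Mathlib.RingTheory.Spectrum.Prime.Noetherian
import Mathlib.RingTheory.Nilpotent.Lemmas
import Mathlib.RingTheory.Flat.Stability
import Mathlib.Topology.Spectral.Basic

/-! Constancy and constructibility of fibre dimensions. -/

universe u

open CategoryTheory CategoryTheory.Limits TensorProduct Module Function Filter Topology

namespace Groth.Agent.TFun

variable {A : Type u} [CommRing A]

theorem eventually_fibreDim_le (M : Type u) [AddCommGroup M] [Module A M] [Module.Finite A M]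
    (x : PrimeSpectrum A) : ∀ᶠ y in 𝓝 x, fibreDim M y ≤ fibreDim M x := by
  obtain ⟨U, hU, hx, h⟩ := exists_isOpen_fibreDim_le M x
  exact eventually_of_mem (hU.mem_nhds hx) h

theorem isOpen_fibreDim_le (M : Type u) [AddCommGroup M] [Module A M] [Module.Finite A M] (n : ℕ) :
    IsOpen {x : PrimeSpectrum A | fibreDim M x ≤ n} :=
  isOpen_iff_mem_nhds.2 fun x hx => (eventually_fibreDim_le M x).mono fun _ hy => hy.trans hx

theorem exists_generators (M : Type u) [AddCommGroup M] [Module A M] [Module.Finite A M]
    (x : PrimeSpectrum A) :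
    ∃ v : (Fin (fibreDim M x) → A) →ₗ[A] M, x ∉ Module.support A (M ⧸ LinearMap.range v) := by
  classical
  let κ := x.asIdeal.ResidueField
  have hspan : Submodule.span κ (Set.range fun m : M => (1 : κ) ⊗ₜ[A] m) = ⊤ := by
    rw [eq_top_iff]
    rintro z -
    induction z using TensorProduct.induction_on with
    | zero => exact zero_mem _
    | tmul c m =>
      have : c ⊗ₜ[A] m = c • ((1 : κ) ⊗ₜ[A] m) := by rw [smul_tmul', smul_eq_mul, mul_one]
      exact this ▸ Submodule.smul_mem _ _ (Submodule.subset_span ⟨m, rfl⟩)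
    | add a b ha hb => exact add_mem ha hb
  obtain ⟨b, hb, hbspan, hbli⟩ :=
    exists_linearIndependent κ (Set.range fun m : M => (1 : κ) ⊗ₜ[A] m)
  let B : Basis b κ (κ ⊗[A] M) := Basis.mk hbli (by
    rw [Subtype.range_coe, hbspan, hspan])
  have : Fintype b := FiniteDimensional.fintypeBasisIndex B
  let e : Fin (fibreDim M x) ≃ b :=
    (Fintype.equivFinOfCardEq (finrank_eq_card_basis B).symm).symm
  choose m hm using fun i : Fin (fibreDim M x) => hb (e i).2
  let v := Fintype.linearCombination A m
  refine ⟨v, fun hx => ?_⟩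
  rw [Module.mem_support_iff_nontrivial_residueField_tensorProduct] at hx
  refine not_subsingleton (κ ⊗[A] (M ⧸ LinearMap.range v))
    (subsingleton_iff_forall_eq 0 |>.2 fun z => ?_)
  obtain ⟨w, rfl⟩ := LinearMap.lTensor_surjective κ (Submodule.mkQ_surjective (LinearMap.range v)) z
  refine (lTensor_exact κ v.exact_map_mkQ_range (Submodule.mkQ_surjective _) _).2
    ⟨∑ i, B.repr w (e i) ⊗ₜ[A] Pi.single i 1, ?_⟩
  simp only [map_sum, LinearMap.lTensor_tmul, v, Fintype.linearCombination_apply_single, one_smul]
  conv_rhs => rw [← B.sum_repr w, ← e.sum_comp]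
  refine Finset.sum_congr rfl fun i _ => ?_
  rw [Basis.mk_apply, ← hm i, smul_tmul', smul_eq_mul, mul_one]

/-- A finite module over a reduced ring with locally constant fibre dimension is projective. -/
theorem freeLocus_eq_univ_of_fibreDim [IsReduced A] (M : Type u) [AddCommGroup M] [Module A M]
    [Module.Finite A M] (h : IsLocallyConstant (fibreDim (A := A) M)) :
    Module.freeLocus A M = Set.univ := by
  refine Set.eq_univ_of_forall fun x => ?_
  obtain ⟨v, hv⟩ := exists_generators M x
  generalize hn : fibreDim M x = n at v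
  have hU : IsOpen ((Module.support A (M ⧸ LinearMap.range v))ᶜ ∩ {y | fibreDim M y = n}) :=
    Module.isClosed_support.isOpen_compl.inter (h.isOpen_fiber n)
  obtain ⟨_, ⟨f, rfl⟩, hxf, hfU⟩ :=
    PrimeSpectrum.isTopologicalBasis_basic_opens.exists_subset_of_mem_open
      (show x ∈ _ ∩ {y | fibreDim M y = n} from ⟨hv, hn⟩) hU
  have hker : ∀ c ∈ LinearMap.ker v, f • c = 0 := by
    intro c hc
    ext i
    simp only [Pi.smul_apply, smul_eq_mul, Pi.zero_apply]
    apply IsNilpotent.eq_zero
    rw [nilpotent_iff_mem_prime]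
    intro P hP
    by_cases hfP : f ∈ P
    · exact P.mul_mem_right _ hfP
    obtain ⟨hy, hyn⟩ := hfU (show (⟨P, hP⟩ : PrimeSpectrum A) ∈ PrimeSpectrum.basicOpen f from hfP)
    let κ := (⟨P, hP⟩ : PrimeSpectrum A).asIdeal.ResidueField
    rw [Set.mem_compl_iff, Module.mem_support_iff_nontrivial_residueField_tensorProduct,
      not_nontrivial_iff_subsingleton] at hy
    have hs : Surjective (v.baseChange κ) := fun z =>
      (lTensor_exact κ v.exact_map_mkQ_range (Submodule.mkQ_surjective _) z).1
        (Subsingleton.elim _ _)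
    have hdim : finrank κ (κ ⊗[A] (Fin n → A)) = finrank κ (κ ⊗[A] M) := by
      rw [(TensorProduct.piScalarRight A κ κ (Fin n)).finrank_eq, finrank_pi, Fintype.card_fin]
      exact hyn.symm
    have hi : Injective (v.baseChange κ) :=
      (LinearMap.injective_iff_surjective_of_finrank_eq_finrank hdim).2 hs
    have h0 : (1 : κ) ⊗ₜ[A] c = 0 := hi (by
      rw [map_zero, LinearMap.baseChange_tmul, LinearMap.mem_ker.1 hc, tmul_zero])
    have h1 : algebraMap A κ (c i) = 0 := by
      have := congr(TensorProduct.piScalarRight A κ κ (Fin n) $h0 i)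
      simpa [Algebra.smul_def] using this
    exact P.mul_mem_left _ (Ideal.algebraMap_residueField_eq_zero.1 h1)
  let Ax := Localization.AtPrime x.asIdeal
  rw [Module.mem_freeLocus_iff_tensor x Ax]
  have hsurj : Surjective (v.baseChange Ax) := by
    have hQ : Subsingleton (Ax ⊗[A] (M ⧸ LinearMap.range v)) := by
      rw [Module.notMem_support_iff] at hv
      have := hv
      exact (LocalizedModule.equivTensorProduct x.asIdeal.primeCompl
        (M ⧸ LinearMap.range v)).symm.toEquiv.subsingleton
    exact fun z => (lTensor_exact Ax v.exact_map_mkQ_range (Submodule.mkQ_surjective _) z).1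
      (Subsingleton.elim _ _)
  have hinj : Injective (v.baseChange Ax) := by
    rw [injective_iff_map_eq_zero]
    intro z hz
    obtain ⟨w, rfl⟩ := (Module.Flat.lTensor_exact Ax v.exact_subtype_ker_map z).1 hz
    obtain ⟨u, hu⟩ : IsUnit (algebraMap A Ax f) :=
      IsLocalization.map_units Ax (⟨f, hxf⟩ : x.asIdeal.primeCompl)
    have : ∀ z : Ax ⊗[A] LinearMap.ker v, algebraMap A Ax f • z = 0 := by
      intro z
      rw [algebraMap_smul]
      induction z using TensorProduct.induction_on with
      | zero => simp
      | add a b ha hb => rw [smul_add, ha, hb, add_zero]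
      | tmul a c =>
        rw [← tmul_smul, show f • c = 0 from Subtype.ext (hker c c.2), tmul_zero]
    have hw : w = 0 := by
      have := this ((↑u⁻¹ : Ax) • w)
      rwa [smul_smul, ← hu, Units.mul_inv, one_smul] at this
    rw [hw, map_zero]
  exact Module.Free.of_equiv (LinearEquiv.ofBijective _ ⟨hinj, hsurj⟩)

theorem flat_of_fibreDim [IsNoetherianRing A] [IsReduced A] (M : Type u) [AddCommGroup M]
    [Module A M] [Module.Finite A M] (h : IsLocallyConstant (fibreDim (A := A) M)) :
    Module.Flat A M := by
  have := Module.finitePresentation_of_finite A M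
  have := (Module.freeLocus_eq_univ_iff (R := A) (M := M)).1 (freeLocus_eq_univ_of_fibreDim M h)
  infer_instance

theorem isLocallyConstant_fibreDim_of_flat (M : Type u) [AddCommGroup M] [Module A M]
    [Module.FinitePresentation A M] [Module.Flat A M] :
    IsLocallyConstant (fibreDim (A := A) M) := by
  have : fibreDim (A := A) M = Module.rankAtStalk M :=
    funext fun x => (Module.rankAtStalk_eq x).symm
  rw [this]
  exact Module.isLocallyConstant_rankAtStalk

theorem isConstructible_fibreDim [IsNoetherianRing A] (M : Type u) [AddCommGroup M] [Module A M]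
    [Module.Finite A M] (n : ℕ) : IsConstructible {x : PrimeSpectrum A | fibreDim M x = n} := by
  have hc : ∀ m, IsConstructible {x : PrimeSpectrum A | fibreDim M x ≤ m} := fun m =>
    IsRetrocompact.isConstructible (isOpen_fibreDim_le M m)
      (fun _ _ _ => TopologicalSpace.NoetherianSpace.isCompact _)
  cases n with
  | zero => simpa using hc 0
  | succ n =>
    convert (hc (n + 1)).sdiff (hc n) using 1
    ext x
    simp only [Set.mem_ofPred_eq, Set.mem_sdiff]
    omega

theorem exists_fibreDim_le (M : Type u) [AddCommGroup M] [Module A M] [Module.Finite A M] :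
    ∃ N, ∀ x : PrimeSpectrum A, fibreDim M x ≤ N := by
  obtain ⟨n, v, hv⟩ := Module.Finite.exists_fin' A M
  refine ⟨n, fun x => ?_⟩
  let κ := x.asIdeal.ResidueField
  refine (LinearMap.finrank_le_finrank_of_surjective (f := v.baseChange κ)
    (LinearMap.lTensor_surjective κ hv)).trans ?_
  rw [(TensorProduct.piScalarRight A κ κ (Fin n)).finrank_eq, finrank_pi, Fintype.card_fin]

end Groth.Agent.TFun

namespace Groth.Agent.TFun

variable {A : Type u} [CommRing A] (P : ChainComplex (ModuleCat.{u} A) ℤ)

/-- If a sum of two upper semicontinuous fibre dimensions is constant near a point, so is each. -/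
theorem eventually_eq_of_sum {M N : Type u} [AddCommGroup M] [Module A M] [Module.Finite A M]
    [AddCommGroup N] [Module A N] [Module.Finite A N] {x : PrimeSpectrum A}
    (h : ∀ᶠ y in 𝓝 x, fibreDim M y + fibreDim N y = fibreDim M x + fibreDim N x) :
    (∀ᶠ y in 𝓝 x, fibreDim M y = fibreDim M x) ∧ ∀ᶠ y in 𝓝 x, fibreDim N y = fibreDim N x := by
  have hM := eventually_fibreDim_le M x
  have hN := eventually_fibreDim_le N x
  constructor <;> (filter_upwards [h, hM, hN] with y h1 h2 h3; omega)

theorem isLocallyConstant_dRank_of_exact [IsNoetherianRing A]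
    (hP : ∀ i, Module.Finite A (P.X i) ∧ Module.Flat A (P.X i)) (p : ℤ)
    (h : (CohIII.TFun P p).PreservesMonomorphisms ∧ (CohIII.TFun P p).PreservesEpimorphisms) :
    IsLocallyConstant (CohIII.dRank P p) := by
  have hF := fun i => (hP i).2
  have := (preservesMono_iff P hF (r := p + 1) rfl).1 h.1
  have := (preservesEpi_iff P hF (sub_add_cancel p 1)).1 h.2
  have := (hP p).1
  have := (hP (p - 1)).1
  have := (hP (p - 1)).2
  have := Module.finitePresentation_of_finite A (coker P (p + 1) p)
  have := Module.finitePresentation_of_finite A (coker P p (p - 1))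
  have := Module.finitePresentation_of_finite A (P.X (p - 1))
  rw [IsLocallyConstant.iff_eventually_eq]
  intro x
  have e1 := (isLocallyConstant_fibreDim_of_flat (A := A) (coker P (p + 1) p)).eventually_eq x
  have e2 := (isLocallyConstant_fibreDim_of_flat (A := A) (coker P p (p - 1))).eventually_eq x
  have e3 := (isLocallyConstant_fibreDim_of_flat (A := A) (P.X (p - 1))).eventually_eq x
  filter_upwards [e1, e2, e3] with y h1 h2 h3
  have d1 := dRank_add P (fun i => (hP i).1) rfl (sub_add_cancel p 1) y
  have d2 := dRank_add P (fun i => (hP i).1) rfl (sub_add_cancel p 1) x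
  omega

theorem eventually_sum_eq [IsNoetherianRing A]
    (hP : ∀ i, Module.Finite A (P.X i) ∧ Module.Flat A (P.X i)) {r p q : ℤ} (hrp : p + 1 = r)
    (hpq : q + 1 = p) {x : PrimeSpectrum A}
    (h : ∀ᶠ y in 𝓝 x, CohIII.dRank P p y = CohIII.dRank P p x) :
    ∀ᶠ y in 𝓝 x, fibreDim (coker P r p) y + fibreDim (coker P p q) y =
      fibreDim (coker P r p) x + fibreDim (coker P p q) x := by
  have := (hP q).1
  have := (hP q).2
  have := Module.finitePresentation_of_finite A (P.X q)
  have e3 := (isLocallyConstant_fibreDim_of_flat (A := A) (P.X q)).eventually_eq x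
  filter_upwards [h, e3] with y h1 h3
  have d1 := dRank_add P (fun i => (hP i).1) hrp hpq y
  have d2 := dRank_add P (fun i => (hP i).1) hrp hpq x
  omega

theorem exact_of_isLocallyConstant_dRank [IsNoetherianRing A] [IsReduced A]
    (hP : ∀ i, Module.Finite A (P.X i) ∧ Module.Flat A (P.X i)) (p : ℤ)
    (h : IsLocallyConstant (CohIII.dRank P p)) :
    (CohIII.TFun P p).PreservesMonomorphisms ∧ (CohIII.TFun P p).PreservesEpimorphisms := by
  have := (hP p).1
  have := (hP (p - 1)).1
  have key := fun x => eventually_eq_of_sum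
    (eventually_sum_eq P hP (r := p + 1) rfl (sub_add_cancel p 1) (h.eventually_eq x))
  exact ⟨(preservesMono_iff P (fun i => (hP i).2) rfl).2
    (flat_of_fibreDim _ ((IsLocallyConstant.iff_eventually_eq _).2 fun x => (key x).1)),
    (preservesEpi_iff P (fun i => (hP i).2) (sub_add_cancel p 1)).2
    (flat_of_fibreDim _ ((IsLocallyConstant.iff_eventually_eq _).2 fun x => (key x).2))⟩

theorem mem_of_isOpen_closedPoint [IsLocalRing A] {U : Set (PrimeSpectrum A)} (hU : IsOpen U)
    (h : IsLocalRing.closedPoint A ∈ U) (y : PrimeSpectrum A) : y ∈ U :=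
  ((PrimeSpectrum.le_iff_specializes _ _).1 (IsLocalRing.le_maximalIdeal y.2.ne_top)).mem_open hU h

end Groth.Agent.TFun
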