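import Groth.Agent.TFun.Kernel
import Groth.Agent.TFun.Rank2
import Mathlib.RingTheory.Flat.TorsionFree
import Mathlib.Algebra.Category.ModuleCat.Monoidal.Closed

/-! Right exact and exact `T_p`: the functor is `H_p ⊗ -`. -/

universe u

open CategoryTheory CategoryTheory.Limits TensorProduct HomologicalComplex Function MonoidalCategory

namespace Groth.Agent.TFun

variable {A : Type u} [CommRing A] (P : ChainComplex (ModuleCat.{u} A) ℤ) {r p q : ℤ}

/-- `T_p ≅ H_p ⊗ -` when `C_{p-1}` is flat. -/
theorem nonempty_iso_tensorLeft (hP : ∀ i, Module.Flat A (P.X i)) (hrp : p + 1 = r)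
    (hpq : q + 1 = p) (h : Module.Flat A (coker P p q)) :
    Nonempty (CohIII.TFun P p ≅ tensorLeft (P.homology p)) := by
  choose e he using fun M : ModuleCat.{u} A =>
    exists_obj_equiv_tensor P hrp hpq (hP q) M (.inr h)
  refine ⟨NatIso.ofComponents (fun M => (e M).toModuleIso) fun {M N} g => ?_⟩
  ext x
  have hinj : Injective ((homologyToCoker P hrp).rTensor N) :=
    (LinearMap.lTensor_inj_iff_rTensor_inj _ _).1
      (lTensor_homologyToCoker_exact P hrp hpq (hP q) N (.inr h)).1
  apply hinj
  change (homologyToCoker P hrp).rTensor N (e N ((CohIII.TFun P p).map g x)) =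
    (homologyToCoker P hrp).rTensor N (g.hom.lTensor _ (e M x))
  rw [he, comm, he, tι_natural]

theorem preservesEpi_iff_tensorLeft (hP : ∀ i, Module.Flat A (P.X i)) (p : ℤ) :
    (CohIII.TFun P p).PreservesEpimorphisms ↔
      ∃ N : ModuleCat.{u} A, Nonempty (CohIII.TFun P p ≅ tensorLeft N) := by
  refine ⟨fun h => ⟨P.homology p, nonempty_iso_tensorLeft P hP rfl (sub_add_cancel p 1)
    ((preservesEpi_iff P hP (sub_add_cancel p 1)).1 h)⟩, ?_⟩
  rintro ⟨N, ⟨e⟩⟩
  have : (tensorLeft N).PreservesEpimorphisms :=
    ⟨fun g hg => (ModuleCat.epi_iff_surjective _).2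
      (LinearMap.lTensor_surjective _ ((ModuleCat.epi_iff_surjective g).1 hg))⟩
  exact Functor.PreservesEpimorphisms.of_iso e.symm

theorem exact_iff_tensorLeft_flat (hP : ∀ i, Module.Flat A (P.X i)) (p : ℤ) :
    ((CohIII.TFun P p).PreservesMonomorphisms ∧ (CohIII.TFun P p).PreservesEpimorphisms) ↔
      ∃ N : ModuleCat.{u} A, Module.Flat A N ∧ Nonempty (CohIII.TFun P p ≅ tensorLeft N) := by
  constructor
  · intro h
    obtain ⟨h1, h2⟩ := (exact_iff_epi_and_flat P hP).1 h
    exact ⟨P.homology p, h2, nonempty_iso_tensorLeft P hP rfl (sub_add_cancel p 1)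
      ((preservesEpi_iff P hP (sub_add_cancel p 1)).1 h1)⟩
  · rintro ⟨N, hN, ⟨e⟩⟩
    have : (tensorLeft N).PreservesMonomorphisms :=
      ⟨fun g hg => (ModuleCat.mono_iff_injective _).2
        (Module.Flat.lTensor_preserves_injective_linearMap _
          ((ModuleCat.mono_iff_injective g).1 hg))⟩
    exact ⟨Functor.PreservesMonomorphisms.of_iso e.symm,
      (preservesEpi_iff_tensorLeft P hP p).2 ⟨N, ⟨e⟩⟩⟩

theorem isLocallyConstant_dRank_of_fp (hP : ∀ i, Module.Flat A (P.X i)) (p : ℤ)
    (hex : (CohIII.TFun P p).PreservesMonomorphisms ∧ (CohIII.TFun P p).PreservesEpimorphisms)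
    (hfp : Module.FinitePresentation A (CohIII.T P p (ModuleCat.of A A))) :
    IsLocallyConstant (CohIII.dRank P p) := by
  have : Module.FinitePresentation A ((CohIII.TFun P p).obj (ModuleCat.of A A)) := hfp
  have : Module.FinitePresentation A (P.homology p) :=
    Module.FinitePresentation.of_equiv (obj_self P)
  have hflat := ((exact_iff_epi_and_flat P hP).1 hex).2
  rw [show CohIII.dRank P p = fibreDim (A := A) (P.homology p) from funext fun x =>
    dRank_eq_fibreDim P hP rfl (sub_add_cancel p 1)
      ((preservesEpi_iff P hP (sub_add_cancel p 1)).1 hex.2) x]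
  exact isLocallyConstant_fibreDim_of_flat _

section dedekind

variable [IsDedekindDomain A]

theorem flat_submodule {M : Type u} [AddCommGroup M] [Module A M] [Module.Flat A M]
    (N : Submodule A M) : Module.Flat A N := by
  have : Module.IsTorsionFree A M := Module.Flat.isTorsionFree
  infer_instance

theorem flat_coker_iff_flat_homology (hP : ∀ i, Module.Flat A (P.X i)) (hrp : p + 1 = r)
    (hpq : q + 1 = p) : Module.Flat A (coker P r p) ↔ Module.Flat A (P.homology p) := by
  have := hP q
  constructor
  · intro h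
    have := flat_submodule (LinearMap.range (homologyToCoker P hrp))
    exact Module.Flat.of_linearEquiv (LinearEquiv.ofInjective _ (homologyToCoker_injective P hrp))
  · intro h
    have := flat_submodule (LinearMap.range (toPred P r p q))
    exact flat_middle (homologyToCoker_injective P hrp)
      (exact_homologyToCoker_rangeRestrict P hrp hpq) (toPred P r p q).surjective_rangeRestrict

theorem dedekind (hP : ∀ i, Module.Flat A (P.X i)) (hpq : q + 1 = p) :
    ((CohIII.TFun P p).PreservesMonomorphisms ↔ Module.Flat A (P.homology p)) ∧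
      (((CohIII.TFun P p).PreservesMonomorphisms ∧ (CohIII.TFun P p).PreservesEpimorphisms) ↔
        (Module.Flat A (P.homology p) ∧ Module.Flat A (P.homology q))) := by
  have h1 := (preservesMono_iff P hP (r := p + 1) rfl).trans
    (flat_coker_iff_flat_homology P hP rfl hpq)
  exact ⟨h1, and_congr h1 ((preservesEpi_iff P hP hpq).trans
    (flat_coker_iff_flat_homology P hP hpq (sub_add_cancel q 1)))⟩

end dedekind

end Groth.Agent.TFun
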