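import Groth.Agent.TFun.Exact
import Mathlib.RingTheory.Length
import Mathlib.RingTheory.Artinian.Ring
import Mathlib.RingTheory.LocalRing.Module

/-! `T_p` over an Artinian local ring, terms not necessarily finitely generated. -/

universe u

open CategoryTheory CategoryTheory.Limits TensorProduct HomologicalComplex Function IsLocalRing

set_option linter.unusedSectionVars false

namespace Groth.Agent.TFun

variable {A : Type u} [CommRing A] [IsArtinianRing A] [IsLocalRing A]

theorem eq_top_of_sup_maximalIdeal_smul {C : Type u} [AddCommGroup C] [Module A C]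
    {N : Submodule A C} (h : N ⊔ maximalIdeal A • (⊤ : Submodule A C) = ⊤) : N = ⊤ := by
  obtain ⟨n, hn⟩ := IsArtinianRing.isNilpotent_jacobson_bot (R := A)
  rw [IsLocalRing.jacobson_eq_maximalIdeal ⊥ bot_ne_top] at hn
  have key : ∀ i : ℕ, N ⊔ maximalIdeal A ^ i • (⊤ : Submodule A C) = ⊤ := by
    intro i
    induction i with
    | zero => simp
    | succ i ih =>
      refine top_le_iff.1 (ih.ge.trans (sup_le le_sup_left ?_))
      conv_lhs => rw [← h]
      rw [Submodule.smul_sup, pow_succ, Submodule.mul_smul]
      exact sup_le_sup_right Submodule.smul_le_right _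
  simpa [hn] using key n

/-- A minimal free cover. -/
theorem exists_minimal_cover (C : Type u) [AddCommGroup C] [Module A C] :
    ∃ (ι : Type u) (F : Type u) (_ : AddCommGroup F) (_ : Module A F) (_ : F ≃ₗ[A] (ι →₀ A))
      (v : F →ₗ[A] C), Surjective v ∧ Bijective (v.lTensor (ResidueField A)) := by
  let b := Module.Free.chooseBasis (ResidueField A) (ResidueField A ⊗[A] C)
  choose c hc using fun i =>
    TensorProduct.mk_surjective A C (ResidueField A) residue_surjective (b i)
  let v : (_ →₀ A) →ₗ[A] C := Finsupp.linearCombination A c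
  have hbij : Bijective (v.lTensor (ResidueField A)) := by
    let b₀ := Algebra.TensorProduct.basis (ResidueField A)
      (Finsupp.basisSingleOne (R := A)
        (ι := Module.Free.ChooseBasisIndex (ResidueField A) (ResidueField A ⊗[A] C)))
    have h : v.baseChange (ResidueField A) = (b₀.equiv b (Equiv.refl _)).toLinearMap := by
      refine b₀.ext fun i => ?_
      rw [LinearEquiv.coe_coe, Module.Basis.equiv_apply, Equiv.refl_apply, ← hc]
      simp [b₀, v]
    have h2 : ⇑(v.lTensor (ResidueField A)) = ⇑(v.baseChange (ResidueField A)) := rfl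
    rw [h2, h]
    exact (b₀.equiv b (Equiv.refl _)).bijective
  refine ⟨_, _, inferInstance, inferInstance, LinearEquiv.refl A _, v, ?_, hbij⟩
  rw [← LinearMap.range_eq_top]
  refine eq_top_of_sup_maximalIdeal_smul (top_le_iff.1 fun x _ => ?_)
  obtain ⟨z, hz⟩ := hbij.2 ((1 : ResidueField A) ⊗ₜ x)
  obtain ⟨y, rfl⟩ := TensorProduct.mk_surjective A _ (ResidueField A) residue_surjective z
  rw [TensorProduct.mk_apply, LinearMap.lTensor_tmul] at hz
  have : x - v y ∈ maximalIdeal A • (⊤ : Submodule A C) := by
    have h0 : TensorProduct.mk A (ResidueField A) C 1 (x - v y) = 0 := by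
      rw [map_sub, sub_eq_zero]; exact hz.symm
    rw [← LinearMap.mem_ker] at h0
    exact (LinearMap.ker_tensorProductMk (R := A) (I := maximalIdeal A) (Q := C)).le h0
  rw [← add_sub_cancel (v y) x]
  exact Submodule.add_mem_sup ⟨y, rfl⟩ this

/-- `C` is free if `C ⊗ 𝔪 → C` is injective. -/
theorem free_of_maximalIdeal_injective {C : Type u} [AddCommGroup C] [Module A C]
    (h : Injective ((maximalIdeal A).subtype.lTensor C)) : Module.Free A C := by
  obtain ⟨ι, F, _, _, eF, v, hv, hbij⟩ := exists_minimal_cover (A := A) C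
  let μ : ∀ (X : Type u) [AddCommGroup X] [Module A X], X ⊗[A] maximalIdeal A →ₗ[A] X := fun X _ _ =>
    (TensorProduct.rid A X).toLinearMap ∘ₗ (maximalIdeal A).subtype.lTensor X
  have hμ : ∀ {X Y : Type u} [AddCommGroup X] [Module A X] [AddCommGroup Y] [Module A Y]
      (f : X →ₗ[A] Y) (w : X ⊗[A] maximalIdeal A), μ Y (f.rTensor _ w) = f (μ X w) := by
    intro X Y _ _ _ _ f w
    induction w using TensorProduct.induction_on with
    | zero => simp
    | tmul a b => simp [μ]
    | add a b ha hb => simp only [map_add, ha, hb]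
  have hμmem : ∀ (X : Type u) [AddCommGroup X] [Module A X] (x : X),
      x ∈ maximalIdeal A • (⊤ : Submodule A X) → ∃ w, μ X w = x := by
    intro X _ _ x hx
    refine Submodule.smul_induction_on hx (fun a ha y _ => ⟨y ⊗ₜ ⟨a, ha⟩, by simp [μ]⟩) ?_
    rintro _ _ ⟨w, rfl⟩ ⟨w', rfl⟩
    exact ⟨w + w', map_add _ w w'⟩
  have hμrange : ∀ (X : Type u) [AddCommGroup X] [Module A X] (w : X ⊗[A] maximalIdeal A),
      μ X w ∈ maximalIdeal A • (⊤ : Submodule A X) := by
    intro X _ _ w
    induction w using TensorProduct.induction_on with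
    | zero => simp
    | tmul a b =>
      simp only [μ, LinearMap.coe_comp, LinearEquiv.coe_coe, comp_apply, LinearMap.lTensor_tmul,
        TensorProduct.rid_tmul]
      exact Submodule.smul_mem_smul b.2 trivial
    | add a b ha hb => rw [map_add]; exact add_mem ha hb
  have hker : ∀ x, v x = 0 → x ∈ maximalIdeal A • (⊤ : Submodule A F) := by
    intro x hx
    refine (LinearMap.ker_tensorProductMk (R := A) (I := maximalIdeal A) (Q := F)).le ?_
    have h1 : (1 : ResidueField A) ⊗ₜ[A] x = 0 :=
      hbij.1 (by rw [LinearMap.lTensor_tmul, hx, tmul_zero, map_zero])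
    rw [LinearMap.mem_ker]
    exact h1
  have hN : LinearMap.ker v = ⊥ := by
    have hle : (⊤ : Submodule A (LinearMap.ker v)) ≤ maximalIdeal A • ⊤ := by
      rintro ⟨x, hx⟩ -
      obtain ⟨w, rfl⟩ := hμmem _ x (hker x hx)
      have h0 : v.rTensor (maximalIdeal A) w = 0 := by
        apply h
        apply (TensorProduct.rid A C).injective
        rw [map_zero, map_zero]
        exact (hμ v w).trans hx
      have hexv : Exact (LinearMap.ker v).subtype v := fun z =>
        ⟨fun hz => ⟨⟨z, hz⟩, rfl⟩, fun ⟨a, ha⟩ => ha ▸ a.2⟩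
      obtain ⟨w', rfl⟩ := (rTensor_exact (maximalIdeal A) hexv hv w).1 h0
      have he : (⟨μ _ ((LinearMap.ker v).subtype.rTensor _ w'), hx⟩ : LinearMap.ker v) =
          μ _ w' := Subtype.ext (hμ _ w')
      rw [he]
      exact hμrange _ w'
    have htop : (⊥ : Submodule A (LinearMap.ker v)) = ⊤ :=
      eq_top_of_sup_maximalIdeal_smul (by rw [bot_sup_eq]; exact top_le_iff.1 hle)
    exact (Submodule.subsingleton_iff_eq_bot).1
      ((Submodule.subsingleton_iff A).1 (subsingleton_of_bot_eq_top htop))
  exact Module.Free.of_equiv (eF.symm.trans (LinearEquiv.ofBijective v ⟨LinearMap.ker_eq_bot.1 hN, hv⟩))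

theorem free_of_flat (C : Type u) [AddCommGroup C] [Module A C] [Module.Flat A C] :
    Module.Free A C :=
  free_of_maximalIdeal_injective
    (Module.Flat.lTensor_preserves_injective_linearMap _ Subtype.val_injective)

variable (P : ChainComplex (ModuleCat.{u} A) ℤ) {r p q : ℤ}

theorem preservesEpi_iff_surjective_residue_artinian (hP : ∀ i, Module.Flat A (P.X i)) (p : ℤ) :
    (CohIII.TFun P p).PreservesEpimorphisms ↔ Surjective ((CohIII.TFun P p).map
      (ModuleCat.ofHom (Algebra.linearMap A (ResidueField A)))).hom := by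
  constructor
  · intro h
    have : Epi (ModuleCat.ofHom (Algebra.linearMap A (ResidueField A))) :=
      (ModuleCat.epi_iff_surjective _).2 residue_surjective
    exact (ModuleCat.epi_iff_surjective _).1 (h.preserves _)
  · intro h
    have hl := (surjective_map_iff P (r := p + 1) rfl (sub_add_cancel p 1) _).1 h
    have := hP (p - 1)
    rw [preservesEpi_iff P hP (sub_add_cancel p 1)]
    have hfree : Module.Free A (coker P p (p - 1)) := by
      refine free_of_maximalIdeal_injective (injective_of_liftsAt _ _ (d_d P) ?_ residue_surjective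
        (Module.Flat.lTensor_preserves_injective_linearMap _ Subtype.val_injective) hl)
      intro x
      simp only [ModuleCat.hom_ofHom, Algebra.linearMap_apply, ResidueField.algebraMap_eq,
        residue_eq_zero_iff, Set.mem_range, Submodule.subtype_apply]
      exact ⟨fun hx => ⟨⟨x, hx⟩, rfl⟩, fun ⟨y, hy⟩ => hy ▸ y.2⟩
    infer_instance

theorem length_le_add_of_exact {X Y Z : Type u} [AddCommGroup X] [Module A X] [AddCommGroup Y]
    [Module A Y] [AddCommGroup Z] [Module A Z] {f : X →ₗ[A] Y} {g : Y →ₗ[A] Z} (h : Exact f g) :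
    Module.length A Y ≤ Module.length A X + Module.length A (LinearMap.range g) := by
  have := Module.length_eq_add_of_exact (LinearMap.range f).subtype g.rangeRestrict
    Subtype.val_injective g.surjective_rangeRestrict (fun y => by
      rw [← LinearMap.mem_ker, LinearMap.ker_rangeRestrict, LinearMap.mem_ker]
      refine (h y).trans ?_
      exact ⟨fun hy => ⟨⟨y, hy⟩, rfl⟩, fun ⟨a, ha⟩ => ha ▸ a.2⟩)
  rw [this]
  exact add_le_add (Module.length_le_of_surjective f.rangeRestrict f.surjective_rangeRestrict) le_rfl

/-- `T_p` is exact in the middle. -/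
theorem exact_map (hP : ∀ i, Module.Flat A (P.X i)) (hrp : p + 1 = r) (hpq : q + 1 = p)
    {L M N : ModuleCat.{u} A} (i : L ⟶ M) (g : M ⟶ N) (hi : Injective i.hom)
    (hex : Exact i.hom g.hom) (hg : Surjective g.hom) :
    Exact ((CohIII.TFun P p).map i).hom ((CohIII.TFun P p).map g).hom := by
  have := hP q
  intro x
  constructor
  · intro hx
    obtain ⟨z, rfl⟩ := homologyπ_surjective (K := CohIII.tensorObj P M) (p := p) x
    obtain ⟨z', h1, h2⟩ := homologyMap_π (CohIII.tensorMap P g) z
    have hx' : (CohIII.tensorObj P N).homologyπ p z' = 0 := h1.symm.trans hx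
    obtain ⟨w, hw⟩ := (homologyπ_eq_zero_iff hrp z').1 hx'
    rw [h2] at hw
    obtain ⟨w', rfl⟩ := LinearMap.lTensor_surjective (P.X r) hg w
    set e : P.X p ⊗[A] M := (CohIII.tensorObj P M).iCycles p z with he
    have hd : (P.d p q).hom.rTensor M e = 0 := d_iCycles (K := CohIII.tensorObj P M) z
    have h0 : g.hom.lTensor (P.X p) (e - (P.d r p).hom.rTensor M w') = 0 := by
      rw [map_sub, ← comm, sub_eq_zero]
      exact hw.symm
    obtain ⟨n, hn⟩ := (lTensor_exact (P.X p) hex hg _).1 h0
    have hdn : (P.d p q).hom.rTensor L n = 0 := by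
      apply Module.Flat.lTensor_preserves_injective_linearMap (M := P.X q) i.hom hi
      rw [map_zero, ← comm, hn, map_sub, hd, ← LinearMap.comp_apply, ← LinearMap.rTensor_comp,
        d_d, LinearMap.rTensor_zero, LinearMap.zero_apply, sub_zero]
    obtain ⟨c, hc⟩ := exists_cycle (K := CohIII.tensorObj P L) hpq n hdn
    obtain ⟨c', k1, k2⟩ := homologyMap_π (CohIII.tensorMap P i) c
    refine ⟨(CohIII.tensorObj P L).homologyπ p c, k1.trans ?_⟩
    refine (homologyπ_eq_iff hrp _ _).2 ⟨-w', ?_⟩
    rw [k2, hc]
    change (P.d r p).hom.rTensor M (-w') = i.hom.lTensor (P.X p) n - e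
    rw [hn, map_neg]
    abel
  · rintro ⟨y, rfl⟩
    have : i ≫ g = 0 := by
      ext a
      exact hex.apply_apply_eq_zero a
    rw [← LinearMap.comp_apply, ← ModuleCat.hom_comp, ← Functor.map_comp, this]
    have h0 : (CohIII.TFun P p).map (0 : L ⟶ N) = 0 := by
      change homologyMap (CohIII.tensorMap P 0) p = 0
      have : CohIII.tensorMap P (0 : L ⟶ N) = 0 := by
        ext i : 1
        ext x : 1
        refine TensorProduct.ext' fun a b => ?_
        exact TensorProduct.tmul_zero _ _
      rw [this, homologyMap_zero]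
    rw [h0]
    rfl

theorem length_T_le (hP : ∀ i, Module.Flat A (P.X i)) (p : ℤ) (M : Type u) [AddCommGroup M]
    [Module A M] (hM : IsFiniteLength A M) :
    Module.length A (CohIII.T P p (ModuleCat.of A M)) ≤
      Module.length A (CohIII.T P p (ModuleCat.of A (ResidueField A))) * Module.length A M := by
  induction hM with
  | @of_subsingleton M _ _ _ =>
    have hz : Subsingleton ((CohIII.TFun P p).obj (ModuleCat.of A M)) :=
      (tι_injective P (r := p + 1) rfl (ModuleCat.of A M)).subsingleton
    have : Module.length A (CohIII.T P p (ModuleCat.of A M)) = 0 := Module.length_eq_zero_iff.2 hz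
    rw [this]
    exact zero_le
  | @of_simple_quotient M _ _ N _ _ ih =>
    obtain ⟨I, hI, ⟨e⟩⟩ := isSimpleModule_iff_quot_maximal.1 (inferInstance : IsSimpleModule A (M ⧸ N))
    obtain rfl := IsLocalRing.eq_maximalIdeal hI
    let g : ModuleCat.of A M ⟶ ModuleCat.of A (ResidueField A) :=
      ModuleCat.ofHom (e.toLinearMap ∘ₗ N.mkQ)
    have hex := exact_map P hP (r := p + 1) (q := p - 1) rfl (sub_add_cancel p 1)
      (ModuleCat.ofHom N.subtype) g Subtype.val_injective (fun x => by
        refine (map_eq_zero_iff e.toLinearMap e.injective).trans ?_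
        rw [Submodule.mkQ_apply, Submodule.Quotient.mk_eq_zero]
        exact ⟨fun hx => ⟨⟨x, hx⟩, rfl⟩, fun ⟨a, ha⟩ => ha ▸ a.2⟩)
      (e.surjective.comp N.mkQ_surjective)
    have hlen : Module.length A M = Module.length A N + 1 := by
      rw [Module.length_eq_add_of_exact N.subtype N.mkQ N.subtype_injective N.mkQ_surjective
        (LinearMap.exact_subtype_mkQ N), Module.length_eq_one A (M ⧸ N)]
    rw [hlen, mul_add, mul_one]
    exact (length_le_add_of_exact hex).trans (add_le_add ih
      (Module.length_le_of_injective _ (Submodule.subtype_injective _)))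

/-- If the length of `T_p(A)` is the largest possible, `T_p(A) → T_p(k)` is onto and `T_p(A)` is
free. -/
theorem surjective_and_free_of_length_eq (hP : ∀ i, Module.Flat A (P.X i)) (p : ℤ)
    (hd : Module.length A (CohIII.T P p (ModuleCat.of A (ResidueField A))) ≠ ⊤)
    (hj : Module.length A (CohIII.T P p (ModuleCat.of A A)) =
      Module.length A (CohIII.T P p (ModuleCat.of A (ResidueField A))) * Module.length A A) :
    Surjective ((CohIII.TFun P p).map (ModuleCat.ofHom (Algebra.linearMap A (ResidueField A)))).hom ∧
      Module.Free A (CohIII.T P p (ModuleCat.of A A)) := by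
  set d := Module.length A (CohIII.T P p (ModuleCat.of A (ResidueField A))) with hd'
  set T := ((CohIII.TFun P p).map (ModuleCat.ofHom (Algebra.linearMap A (ResidueField A)))).hom
  have hmax : Exact (ModuleCat.ofHom (maximalIdeal A).subtype).hom
      (ModuleCat.ofHom (Algebra.linearMap A (ResidueField A))).hom := fun x => by
    simp only [ModuleCat.hom_ofHom, Algebra.linearMap_apply, ResidueField.algebraMap_eq,
      residue_eq_zero_iff, Set.mem_range, Submodule.subtype_apply]
    exact ⟨fun hx => ⟨⟨x, hx⟩, rfl⟩, fun ⟨y, hy⟩ => hy ▸ y.2⟩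
  have hex := exact_map P hP (r := p + 1) (q := p - 1) rfl (sub_add_cancel p 1) _ _
    Subtype.val_injective hmax residue_surjective
  have hlen : Module.length A A = Module.length A (maximalIdeal A) + 1 := by
    have : IsSimpleModule A (ResidueField A) :=
      isSimpleModule_iff_quot_maximal.2 ⟨_, maximalIdeal.isMaximal A, ⟨LinearEquiv.refl A _⟩⟩
    rw [Module.length_eq_add_of_exact (maximalIdeal A).subtype (Algebra.linearMap A (ResidueField A))
      (Submodule.subtype_injective _) residue_surjective hmax,
      Module.length_eq_one A (ResidueField A)]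
  have hm : IsFiniteLength A (maximalIdeal A) :=
    isFiniteLength_iff_isNoetherian_isArtinian.2 ⟨inferInstance, inferInstance⟩
  have hfinm : d * Module.length A (maximalIdeal A) ≠ ⊤ :=
    WithTop.mul_ne_top hd (Module.length_ne_top_iff.2 hm)
  have h1 : d * Module.length A (maximalIdeal A) + d ≤
      d * Module.length A (maximalIdeal A) + Module.length A (LinearMap.range T) := by
    calc _ = Module.length A (CohIII.T P p (ModuleCat.of A A)) := by rw [hj, hlen, mul_add, mul_one]
      _ ≤ _ := (length_le_add_of_exact hex).trans (add_le_add (length_T_le P hP p _ hm) le_rfl)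
  have h2 : d ≤ Module.length A (LinearMap.range T) := by
    rwa [ENat.add_le_add_iff_left hfinm] at h1
  have hsurj : Surjective T := by
    rw [← LinearMap.range_eq_top]
    obtain ⟨hn, ha⟩ := isFiniteLength_iff_isNoetherian_isArtinian.1 (Module.length_ne_top_iff.1 hd)
    have : IsArtinian A ((CohIII.TFun P p).obj (ModuleCat.of A (ResidueField A))) := ha
    have : IsNoetherian A ((CohIII.TFun P p).obj (ModuleCat.of A (ResidueField A))) := hn
    by_contra hne
    exact (Submodule.length_lt hne).not_ge h2
  refine ⟨hsurj, ?_⟩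
  have hepi := (preservesEpi_iff_surjective_residue_artinian P hP p).2 hsurj
  obtain ⟨e, -⟩ := exists_obj_equiv_tensor P (r := p + 1) rfl (sub_add_cancel p 1) (hP _)
    (ModuleCat.of A (ResidueField A))
    (.inr ((preservesEpi_iff P hP (sub_add_cancel p 1)).1 hepi))
  let H := CohIII.T P p (ModuleCat.of A A)
  classical
  obtain ⟨ι, F, _, _, eF, v, hv, hbij⟩ := exists_minimal_cover (A := A) H
  have hsimple : IsSimpleModule A (ResidueField A) :=
    isSimpleModule_iff_quot_maximal.2 ⟨_, maximalIdeal.isMaximal A, ⟨LinearEquiv.refl A _⟩⟩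
  have hd2 : d = ENat.card ι := by
    refine hd'.trans (e.length_eq.trans ?_)
    rw [((TensorProduct.congr (obj_self P (p := p)).symm (LinearEquiv.refl A _)).trans
        ((TensorProduct.comm A _ _).trans ((LinearEquiv.ofBijective _ hbij).symm.trans
          ((TensorProduct.congr (LinearEquiv.refl A _) eF).trans
            (TensorProduct.finsuppScalarRight A A (ResidueField A) ι))))).length_eq,
      Module.length_finsupp, Module.length_eq_one, mul_one]
  have hfin : Module.length A F ≠ ⊤ := by
    rw [eF.length_eq, Module.length_finsupp, ← hd2]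
    exact WithTop.mul_ne_top hd (Module.length_ne_top (R := A) (M := A))
  have hker : LinearMap.ker v = ⊥ := by
    have h3 := Module.length_eq_add_of_exact (LinearMap.ker v).subtype v (Submodule.subtype_injective _) hv
      (fun z => ⟨fun hz => ⟨⟨z, hz⟩, rfl⟩, fun ⟨a, ha⟩ => ha ▸ a.2⟩)
    have hH : Module.length A H = Module.length A F := by
      rw [eF.length_eq, Module.length_finsupp, ← hd2]; exact hj
    rw [hH] at h3
    have h4 : (0 : ℕ∞) + Module.length A F =
        Module.length A (LinearMap.ker v) + Module.length A F := by rw [zero_add, ← h3]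
    replace h4 := WithTop.add_right_cancel hfin h4
    have := Module.length_eq_zero_iff.1 h4.symm
    exact Submodule.eq_bot_of_subsingleton
  exact Module.Free.of_equiv (eF.symm.trans (LinearEquiv.ofBijective v ⟨LinearMap.ker_eq_bot.1 hker, hv⟩))

theorem exact_iff_length (hP : ∀ i, Module.Flat A (P.X i)) (p : ℤ)
    (hd : Module.length A (CohIII.T P p (ModuleCat.of A (ResidueField A))) ≠ ⊤) :
    (((CohIII.TFun P p).PreservesMonomorphisms ∧ (CohIII.TFun P p).PreservesEpimorphisms) ↔
      Module.length A (CohIII.T P p (ModuleCat.of A A)) =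
        Module.length A (CohIII.T P p (ModuleCat.of A (ResidueField A))) * Module.length A A) ∧
    (((CohIII.TFun P p).PreservesMonomorphisms ∧ (CohIII.TFun P p).PreservesEpimorphisms) →
        ∀ M : ModuleCat.{u} A, Module.length A (CohIII.T P p M) =
          Module.length A (CohIII.T P p (ModuleCat.of A (ResidueField A))) * Module.length A M) := by
  have key : ((CohIII.TFun P p).PreservesMonomorphisms ∧ (CohIII.TFun P p).PreservesEpimorphisms) →
      ∀ M : ModuleCat.{u} A, Module.length A (CohIII.T P p M) =
        Module.length A (CohIII.T P p (ModuleCat.of A (ResidueField A))) * Module.length A M := by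
    intro h
    obtain ⟨h1, h2⟩ := (exact_iff_epi_and_flat P hP).1 h
    have : Module.Free A (P.homology p) := @free_of_flat A _ _ _ (P.homology p) _ _ h2
    let b := Module.Free.chooseBasis A (P.homology p)
    have hlen : ∀ M : ModuleCat.{u} A, Module.length A (CohIII.T P p M) =
        ENat.card (Module.Free.ChooseBasisIndex A (P.homology p)) * Module.length A M := by
      intro M
      obtain ⟨e, -⟩ := exists_obj_equiv_tensor P (r := p + 1) rfl (sub_add_cancel p 1) (hP _) M
        (.inr ((preservesEpi_iff P hP (sub_add_cancel p 1)).1 h1))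
      refine (e.trans ((TensorProduct.congr b.repr (LinearEquiv.refl A M)).trans
        (TensorProduct.finsuppScalarLeft A M _))).length_eq.trans ?_
      rw [Module.length_finsupp]
    intro M
    rw [hlen, hlen (ModuleCat.of A (ResidueField A))]
    have hsimple : IsSimpleModule A (ResidueField A) :=
      isSimpleModule_iff_quot_maximal.2 ⟨_, maximalIdeal.isMaximal A, ⟨LinearEquiv.refl A _⟩⟩
    rw [Module.length_eq_one (R := A) (M := ResidueField A), mul_one]
  refine ⟨⟨fun h => key h (ModuleCat.of A A), fun h => ?_⟩, key⟩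
  obtain ⟨h1, h2⟩ := surjective_and_free_of_length_eq P hP p hd h
  rw [exact_iff_epi_and_flat P hP, preservesEpi_iff_surjective_residue_artinian P hP p]
  have h3 : Module.Free A (P.homology p) := by
    have : Module.Free A ((CohIII.TFun P p).obj (ModuleCat.of A A)) := h2
    exact Module.Free.of_equiv (obj_self P)
  exact ⟨h1, inferInstance⟩

end Groth.Agent.TFun
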