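import Groth.Agent.TFun.Cx
import Mathlib.RingTheory.Spectrum.Prime.Module
import Mathlib.RingTheory.Spectrum.Prime.FreeLocus
import Mathlib.Topology.Semicontinuity.Basic
import Mathlib.LinearAlgebra.Dimension.Finite

/-! Fibre dimensions, the rank function `CohIII.dRank`. -/

universe u

open CategoryTheory CategoryTheory.Limits TensorProduct HomologicalComplex Module

namespace Groth.Agent.TFun

theorem finrank_homology_add {κ : Type u} [Field κ] {K : ChainComplex (ModuleCat.{u} κ) ℤ}
    {r p q : ℤ} (hrp : p + 1 = r) (hpq : q + 1 = p) [Module.Finite κ (K.X p)] :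
    finrank κ (K.homology p) + finrank κ (LinearMap.range (K.d r p).hom) +
      finrank κ (LinearMap.range (K.d p q).hom) = finrank κ (K.X p) := by
  have hfin : Module.Finite κ (K.cycles p) :=
    Module.Finite.of_injective (K.iCycles p).hom iCycles_injective
  have hi : LinearMap.range (K.iCycles p).hom = LinearMap.ker (K.d p q).hom := by
    ext x
    constructor
    · rintro ⟨z, rfl⟩
      exact d_iCycles z
    · intro hx
      exact exists_cycle hpq x hx
  have h1 : finrank κ (K.cycles p) = finrank κ (LinearMap.ker (K.d p q).hom) := by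
    rw [← hi]
    exact (LinearEquiv.ofInjective (K.iCycles p).hom iCycles_injective).finrank_eq
  have hk : (LinearMap.ker (K.homologyπ p).hom).map (K.iCycles p).hom =
      LinearMap.range (K.d r p).hom := by
    ext x
    constructor
    · rintro ⟨z, hz, rfl⟩
      exact (homologyπ_eq_zero_iff hrp z).1 hz
    · rintro ⟨v, rfl⟩
      exact ⟨K.toCycles r p v, congr($(K.toCycles_comp_homologyπ r p) v),
        congr($(K.toCycles_i r p) v)⟩
  have h2 := (K.homologyπ p).hom.finrank_range_add_finrank_ker
  rw [LinearMap.range_eq_top.2 homologyπ_surjective, finrank_top,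
    (Submodule.equivMapOfInjective _ iCycles_injective _).finrank_eq, hk, h1] at h2
  have h3 := (K.d p q).hom.finrank_range_add_finrank_ker
  omega

variable {A : Type u} [CommRing A]

section bc

variable (B : Type u) [CommRing B] [Algebra A B]

theorem rank_baseChange_add {κ : Type u} [Field κ] [Algebra A κ] {M N : Type u} [AddCommGroup M]
    [Module A M] [AddCommGroup N] [Module A N] [Module.Finite A N] (f : M →ₗ[A] N) :
    finrank κ (LinearMap.range (f.baseChange κ)) + finrank κ (κ ⊗[A] (N ⧸ LinearMap.range f)) =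
      finrank κ (κ ⊗[A] N) := by
  have hs : Function.Surjective ((LinearMap.range f).mkQ.baseChange κ) :=
    LinearMap.lTensor_surjective κ (Submodule.mkQ_surjective _)
  have hk : LinearMap.ker ((LinearMap.range f).mkQ.baseChange κ) =
      LinearMap.range (f.baseChange κ) := by
    ext x
    exact (lTensor_exact κ f.exact_map_mkQ_range (Submodule.mkQ_surjective _)) x
  have := ((LinearMap.range f).mkQ.baseChange κ).finrank_range_add_finrank_ker
  rw [LinearMap.range_eq_top.2 hs, finrank_top, hk] at this
  omega

variable (P : ChainComplex (ModuleCat.{u} A) ℤ)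


end bc

variable (P : ChainComplex (ModuleCat.{u} A) ℤ)

theorem finrank_bc_homology_add {κ : Type u} [Field κ] (φ : A →+* κ)
    (hfin : ∀ i, Module.Finite A (P.X i)) {r p q : ℤ} (hrp : p + 1 = r) (hpq : q + 1 = p) :
    letI := φ.toAlgebra
    finrank κ ((CohIII.bcCx φ P).homology p) + finrank κ (κ ⊗[A] P.X q) =
      finrank κ (κ ⊗[A] coker P r p) + finrank κ (κ ⊗[A] coker P p q) := by
  let := φ.toAlgebra
  have := hfin p
  have := hfin q
  have : Module.Finite κ ((CohIII.bcCx φ P).X p) := inferInstanceAs (Module.Finite κ (κ ⊗[A] P.X p))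
  have h0 := finrank_homology_add (K := CohIII.bcCx φ P) hrp hpq
  have h1 := rank_baseChange_add (κ := κ) (P.d r p).hom
  have h2 := rank_baseChange_add (κ := κ) (P.d p q).hom
  change finrank κ ((CohIII.bcCx φ P).homology p) +
    finrank κ (LinearMap.range ((P.d r p).hom.baseChange κ)) +
    finrank κ (LinearMap.range ((P.d p q).hom.baseChange κ)) = finrank κ (κ ⊗[A] P.X p) at h0
  simp only [coker]
  omega

/-- fibre dimension of a module -/
noncomputable def fibreDim (M : Type u) [AddCommGroup M] [Module A M] (x : PrimeSpectrum A) : ℕ :=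
  finrank x.asIdeal.ResidueField (x.asIdeal.ResidueField ⊗[A] M)

theorem dRank_add (hfin : ∀ i, Module.Finite A (P.X i)) {r p q : ℤ} (hrp : p + 1 = r)
    (hpq : q + 1 = p) (x : PrimeSpectrum A) :
    CohIII.dRank P p x + fibreDim (P.X q) x =
      fibreDim (coker P r p) x + fibreDim (coker P p q) x := by
  have key : ∀ (i : Algebra A x.asIdeal.ResidueField) (φ : A →+* x.asIdeal.ResidueField),
      @algebraMap A x.asIdeal.ResidueField _ _ i = φ → i = φ.toAlgebra := by
    rintro i φ rfl
    exact Algebra.algebra_ext _ _ fun _ => rfl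
  have h := finrank_bc_homology_add P (algebraMap A x.asIdeal.ResidueField) hfin hrp hpq
  rw [← key _ _ rfl] at h
  exact h

theorem exists_isOpen_fibreDim_le (M : Type u) [AddCommGroup M] [Module A M] [Module.Finite A M]
    (x : PrimeSpectrum A) :
    ∃ U : Set (PrimeSpectrum A), IsOpen U ∧ x ∈ U ∧ ∀ y ∈ U, fibreDim M y ≤ fibreDim M x := by
  classical
  let κ := x.asIdeal.ResidueField
  have hspan : Submodule.span κ (Set.range fun m : M => (1 : κ) ⊗ₜ[A] m) = ⊤ := by
    rw [eq_top_iff]
    rintro z -
    induction z using TensorProduct.induction_on with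
    | zero => exact zero_mem _
    | tmul c m =>
      have : c ⊗ₜ[A] m = c • ((1 : κ) ⊗ₜ[A] m) := by rw [smul_tmul', smul_eq_mul, mul_one]
      exact this ▸ Submodule.smul_mem _ _ (Submodule.subset_span ⟨m, rfl⟩)
    | add a b ha hb => exact add_mem ha hb
  obtain ⟨b, hb, hbspan, hbli⟩ := exists_linearIndependent κ (Set.range fun m : M => (1 : κ) ⊗ₜ[A] m)
  choose m hm using fun i : b => hb i.2
  let B : Basis b κ (κ ⊗[A] M) := Basis.mk hbli (by
    rw [Subtype.range_coe, hbspan, hspan])
  have : Fintype b := FiniteDimensional.fintypeBasisIndex B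
  let v := Fintype.linearCombination A m
  have hv : ∀ i : b, v (Pi.single i 1) = m i := fun i => by simp [v]
  let Q := M ⧸ LinearMap.range v
  refine ⟨(Module.support A Q)ᶜ, Module.isClosed_support.isOpen_compl, ?_, ?_⟩
  · intro hx
    rw [Module.mem_support_iff_nontrivial_residueField_tensorProduct] at hx
    refine not_subsingleton (κ ⊗[A] Q) (subsingleton_iff_forall_eq 0 |>.2 fun z => ?_)
    obtain ⟨w, rfl⟩ := LinearMap.lTensor_surjective κ (Submodule.mkQ_surjective (LinearMap.range v)) z
    obtain ⟨c, rfl⟩ : ∃ c : b → κ, ∑ i, c i • B i = w :=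
      ⟨fun i => B.repr w i, B.sum_repr w⟩
    refine (lTensor_exact κ v.exact_map_mkQ_range (Submodule.mkQ_surjective _) _).2
      ⟨∑ i, c i ⊗ₜ[A] Pi.single i 1, ?_⟩
    simp only [map_sum, LinearMap.lTensor_tmul, hv, B, Basis.coe_mk, ← hm, smul_tmul', smul_eq_mul,
      mul_one]
  · intro y hy
    rw [Set.mem_compl_iff, Module.mem_support_iff_nontrivial_residueField_tensorProduct,
      not_nontrivial_iff_subsingleton] at hy
    let κ' := y.asIdeal.ResidueField
    have hs : Function.Surjective (v.baseChange κ') := fun z =>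
      (lTensor_exact κ' v.exact_map_mkQ_range (Submodule.mkQ_surjective _) z).1
        (Subsingleton.elim _ _)
    calc fibreDim M y ≤ finrank κ' (κ' ⊗[A] (b → A)) :=
          LinearMap.finrank_le_finrank_of_surjective hs
      _ = Fintype.card b := by
          rw [(TensorProduct.piScalarRight A κ' κ' b).finrank_eq, finrank_pi]
      _ = fibreDim M x := (finrank_eq_card_basis B).symm

theorem upperSemicontinuous_dRank (hP : ∀ i, Module.Finite A (P.X i)) (p : ℤ)
    [Module.FinitePresentation A (P.X (p - 1))] [Module.Flat A (P.X (p - 1))] :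
    UpperSemicontinuous (CohIII.dRank P p) := by
  intro x n hn
  have := hP p
  have := hP (p - 1)
  obtain ⟨U, hU, hxU, hUle⟩ := exists_isOpen_fibreDim_le (coker P (p + 1) p) x
  obtain ⟨V, hV, hxV, hVle⟩ := exists_isOpen_fibreDim_le (coker P p (p - 1)) x
  have hrk : ∀ᶠ y in nhds x, fibreDim (P.X (p - 1)) y = fibreDim (P.X (p - 1)) x := by
    filter_upwards [(Module.isLocallyConstant_rankAtStalk (R := A) (M := P.X (p - 1))).eventually_eq x]
      with y hy
    exact (Module.rankAtStalk_eq (M := P.X (p - 1)) y).symm.trans (hy.trans (Module.rankAtStalk_eq x))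
  filter_upwards [hU.mem_nhds hxU, hV.mem_nhds hxV, hrk] with y hyU hyV hy
  have h1 := dRank_add P hP rfl (sub_add_cancel p 1) x
  have h2 := dRank_add P hP rfl (sub_add_cancel p 1) y
  have := hUle y hyU
  have := hVle y hyV
  omega

end Groth.Agent.TFun
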