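import Groth.Agent.TFun.Flat
import Mathlib.RingTheory.Flat.Stability
import Mathlib.RingTheory.Flat.FaithfullyFlat.Basic
import Mathlib.RingTheory.Spectrum.Prime.FreeLocus

/-! Preservation of mono/epi by `CohIII.TFun` after base change, and the loci of exactness. -/

universe u

open CategoryTheory CategoryTheory.Limits TensorProduct HomologicalComplex Function

namespace Groth.Agent.TFun

variable {A : Type u} [CommRing A] (P : ChainComplex (ModuleCat.{u} A) ℤ) {r p q : ℤ}

theorem flat_bc_X {B : Type u} [CommRing B] (φ : A →+* B) (hP : ∀ i, Module.Flat A (P.X i)) (i : ℤ) :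
    Module.Flat B ((CohIII.bcCx φ P).X i) := by
  let := φ.toAlgebra
  have := hP i
  exact inferInstanceAs (Module.Flat B (B ⊗[A] P.X i))

theorem flat_coker_bc_iff_aux {B : Type u} [CommRing B] (φ : A →+* B) (r p : ℤ) :
    letI := φ.toAlgebra
    Module.Flat B (coker (CohIII.bcCx φ P) r p) ↔ Module.Flat B (B ⊗[A] coker P r p) := by
  let := φ.toAlgebra
  let f := (P.d r p).hom
  let g := (LinearMap.range f).mkQ.baseChange B
  have hs : Surjective g := LinearMap.lTensor_surjective B (Submodule.mkQ_surjective _)
  have hk : LinearMap.range (f.baseChange B) = LinearMap.ker g := by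
    ext x
    exact ((lTensor_exact B f.exact_map_mkQ_range (Submodule.mkQ_surjective _)) x).symm
  exact Module.Flat.equiv_iff
    ((Submodule.quotEquivOfEq _ _ hk).trans (g.quotKerEquivOfSurjective hs) :
      ((B ⊗[A] P.X p) ⧸ LinearMap.range (f.baseChange B)) ≃ₗ[B] B ⊗[A] coker P r p)

theorem flat_coker_bc_iff (B : Type u) [CommRing B] [inst : Algebra A B] (r p : ℤ) :
    Module.Flat B (coker (CohIII.bcCx (algebraMap A B) P) r p) ↔
      Module.Flat B (B ⊗[A] coker P r p) := by
  have key : inst = (algebraMap A B).toAlgebra := Algebra.algebra_ext _ _ fun _ => rfl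
  have h := flat_coker_bc_iff_aux P (algebraMap A B) r p
  rw [← key] at h
  exact h

variable (B : Type u) [CommRing B] [Algebra A B] (hP : ∀ i, Module.Flat A (P.X i))
include hP

theorem preservesEpi_bc_iff (hpq : q + 1 = p) :
    (CohIII.TFun (CohIII.bcCx (algebraMap A B) P) p).PreservesEpimorphisms ↔
      Module.Flat B (B ⊗[A] coker P p q) :=
  (preservesEpi_iff _ (flat_bc_X P _ hP) hpq).trans (flat_coker_bc_iff P B p q)

theorem preservesMono_bc_iff (hrp : p + 1 = r) :
    (CohIII.TFun (CohIII.bcCx (algebraMap A B) P) p).PreservesMonomorphisms ↔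
      Module.Flat B (B ⊗[A] coker P r p) :=
  (preservesMono_iff _ (flat_bc_X P _ hP) hrp).trans (flat_coker_bc_iff P B r p)

omit hP B

theorem flat_tensor_iff_mem_freeLocus {C : Type u} [AddCommGroup C] [Module A C]
    [Module.FinitePresentation A C] (y : PrimeSpectrum A) :
    Module.Flat (Localization.AtPrime y.asIdeal) (Localization.AtPrime y.asIdeal ⊗[A] C) ↔
      y ∈ Module.freeLocus A C := by
  rw [Module.mem_freeLocus_iff_tensor y (Localization.AtPrime y.asIdeal)]
  constructor
  · intro h
    exact Module.free_of_flat_of_isLocalRing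
  · intro h
    infer_instance

theorem isOpen_preservesEpi [IsNoetherianRing A]
    (hP : ∀ i, Module.Finite A (P.X i) ∧ Module.Flat A (P.X i)) (p : ℤ) :
    IsOpen {y : PrimeSpectrum A |
      (CohIII.TFun (CohIII.bcCx (algebraMap A (Localization.AtPrime y.asIdeal)) P) p).PreservesEpimorphisms} := by
  have := (hP (p - 1)).1
  have := Module.finitePresentation_of_finite A (coker P p (p - 1))
  convert Module.isOpen_freeLocus (R := A) (M := coker P p (p - 1)) using 1
  ext y
  exact (preservesEpi_bc_iff P _ (fun i => (hP i).2) (sub_add_cancel p 1)).trans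
    (flat_tensor_iff_mem_freeLocus y)

theorem isOpen_preservesMono [IsNoetherianRing A]
    (hP : ∀ i, Module.Finite A (P.X i) ∧ Module.Flat A (P.X i)) (p : ℤ) :
    IsOpen {y : PrimeSpectrum A |
      (CohIII.TFun (CohIII.bcCx (algebraMap A (Localization.AtPrime y.asIdeal)) P) p).PreservesMonomorphisms} := by
  have := (hP p).1
  have := Module.finitePresentation_of_finite A (coker P (p + 1) p)
  convert Module.isOpen_freeLocus (R := A) (M := coker P (p + 1) p) using 1
  ext y
  exact (preservesMono_bc_iff P _ (fun i => (hP i).2) rfl).trans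
    (flat_tensor_iff_mem_freeLocus y)

end Groth.Agent.TFun
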