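import Groth.Agent.TFun.Cx
import Mathlib.RingTheory.Spectrum.Prime.FreeLocus
import Mathlib.RingTheory.LocalRing.Module
import Mathlib.Algebra.Homology.ShortComplex.HomologicalComplex

/-! Projectivity of the opcycles of a complex with vanishing homology at the closed points. -/

universe u

open CategoryTheory CategoryTheory.Limits TensorProduct HomologicalComplex Function

namespace Groth.Agent.TFun

variable {A : Type u} [CommRing A]

/-- If `B ⊗ A/m → X ⊗ A/m` is injective for every maximal `m` then `X/B` is projective. -/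
theorem projective_quotient_of_injective [IsNoetherianRing A] {X : Type u} [AddCommGroup X]
    [Module A X] [Module.Finite A X] [Module.Projective A X] (B : Submodule A X)
    (h : ∀ (m : Ideal A) [m.IsMaximal], Injective (B.subtype.lTensor (A ⧸ m))) :
    Module.Projective A (X ⧸ B) := by
  have := Module.finitePresentation_of_finite A (X ⧸ B)
  rw [← Module.freeLocus_eq_univ_iff]
  suffices hmax : ∀ y : PrimeSpectrum A, y.asIdeal.IsMaximal → y ∈ Module.freeLocus A (X ⧸ B) by
    refine Set.eq_univ_of_forall fun y => ?_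
    obtain ⟨m, hm, hym⟩ := Ideal.exists_le_maximal y.asIdeal y.2.ne_top
    exact ((PrimeSpectrum.le_iff_specializes y ⟨m, hm.isPrime⟩).1 hym).mem_open
      Module.isOpen_freeLocus (hmax _ hm)
  intro y hy
  let L := Localization.AtPrime y.asIdeal
  let κ := IsLocalRing.ResidueField L
  rw [Module.mem_freeLocus_iff_tensor y L]
  have hqs : Surjective (B.mkQ.baseChange L) := LinearMap.lTensor_surjective L B.mkQ_surjective
  have hex : Exact (B.subtype.baseChange L) (B.mkQ.baseChange L) :=
    lTensor_exact L (LinearMap.exact_subtype_mkQ B) B.mkQ_surjective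
  have : Module.Free L (L ⊗[A] X) := Module.free_of_flat_of_isLocalRing
  refine Module.free_of_lTensor_residueField_injective (f := B.subtype.baseChange L) (g := B.mkQ.baseChange L) hqs hex ?_
  let ψ : (A ⧸ y.asIdeal) ≃ₗ[A] κ :=
    LinearEquiv.ofBijective
      (IsScalarTower.toAlgHom A (A ⧸ y.asIdeal) y.asIdeal.ResidueField).toLinearMap
      y.asIdeal.bijective_algebraMap_quotient_residueField
  have hκ : Injective (B.subtype.lTensor κ) := by
    intro a b hab
    obtain ⟨a, rfl⟩ := (LinearEquiv.rTensor B ψ).surjective a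
    obtain ⟨b, rfl⟩ := (LinearEquiv.rTensor B ψ).surjective b
    have key : ∀ z, B.subtype.lTensor κ (LinearEquiv.rTensor B ψ z) =
        LinearEquiv.rTensor X ψ (B.subtype.lTensor (A ⧸ y.asIdeal) z) := fun z =>
      ((DFunLike.congr_fun (LinearMap.lTensor_comp_rTensor _ _ _) z).trans
        (DFunLike.congr_fun (LinearMap.rTensor_comp_lTensor _ _ _) z).symm)
    rw [key, key] at hab
    exact congrArg _ (h y.asIdeal ((LinearEquiv.rTensor X ψ).injective hab))
  let eB := TensorProduct.AlgebraTensorModule.cancelBaseChange A L L κ B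
  let eX := TensorProduct.AlgebraTensorModule.cancelBaseChange A L L κ X
  have hnat : ∀ z, eX ((B.subtype.baseChange L).lTensor κ z) = B.subtype.lTensor κ (eB z) := by
    intro z
    induction z using TensorProduct.induction_on with
    | zero => simp
    | add a b ha hb => simp only [map_add, ha, hb]
    | tmul c w =>
      induction w using TensorProduct.induction_on with
      | zero => simp
      | add a b ha hb => simp only [tmul_add, map_add, ha, hb]
      | tmul l b => simp [eB, eX]
  intro a b hab
  apply eB.injective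
  apply hκ
  rw [← hnat, ← hnat, hab]

theorem projective_opcycles [IsNoetherianRing A] (Q : CochainComplex (ModuleCat.{u} A) ℤ)
    (hQ : ∀ i, Module.Finite A (Q.X i) ∧ Module.Projective A (Q.X i)) (d : ℤ)
    (h2 : ∀ (m : Ideal A) [m.IsMaximal], ∀ p < d,
      IsZero ((CohIII.tensorObj Q (ModuleCat.of A (A ⧸ m))).homology p)) :
    Module.Projective A (Q.opcycles d) := by
  have := (hQ d).1
  have := (hQ d).2
  let B := LinearMap.range (Q.d (d - 1) d).hom
  have hproj : Module.Projective A (Q.X d ⧸ B) := by
    refine projective_quotient_of_injective B fun m hm => ?_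
    rw [LinearMap.lTensor_inj_iff_rTensor_inj, injective_iff_map_eq_zero]
    intro z hz
    obtain ⟨y, rfl⟩ := LinearMap.rTensor_surjective (A ⧸ m)
      (Q.d (d - 1) d).hom.surjective_rangeRestrict z
    let K := CohIII.tensorObj Q (ModuleCat.of A (A ⧸ m))
    have hex : (K.sc' (d - 1 - 1) (d - 1) d).Exact :=
      ((K.sc' (d - 1 - 1) (d - 1) d).exact_iff_isZero_homology).2
        ((h2 m (d - 1) (by omega)).of_iso
          (K.homologyIsoSc' (d - 1 - 1) (d - 1) d (by simp) (by simp)).symm)
    have hy : (Q.d (d - 1) d).hom.rTensor (A ⧸ m) y = 0 := by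
      rw [← hz, ← LinearMap.comp_apply, ← LinearMap.rTensor_comp, LinearMap.subtype_comp_codRestrict]
    obtain ⟨w, hw⟩ := (ShortComplex.moduleCat_exact_iff _).1 hex y hy
    have hw' : (Q.d (d - 1 - 1) (d - 1)).hom.rTensor (A ⧸ m) w = y := hw
    rw [← hw']
    have h0 : (Q.d (d - 1) d).hom.rangeRestrict ∘ₗ (Q.d (d - 1 - 1) (d - 1)).hom = 0 :=
      LinearMap.ext fun v => Subtype.ext congr($(Q.d_comp_d (d - 1 - 1) (d - 1) d) v)
    refine (DFunLike.congr_fun (LinearMap.rTensor_comp (A ⧸ m) (Q.d (d - 1) d).hom.rangeRestrict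
      (Q.d (d - 1 - 1) (d - 1)).hom) w).symm.trans ?_
    rw [h0, LinearMap.rTensor_zero]
    rfl
  have e : Q.opcycles d ≃ₗ[A] (Q.X d ⧸ B) := by
    have hprev : (ComplexShape.up ℤ).prev d = d - 1 := by simp
    change Q.opcycles d ≃ₗ[A] (Q.X d ⧸ LinearMap.range (Q.d (d - 1) d).hom)
    rw [← hprev]
    exact (Q.sc d).moduleCatOpcyclesIso.toLinearEquiv
  exact Module.Projective.of_equiv e.symm

end Groth.Agent.TFun
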