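import Mathlib.LinearAlgebra.TensorProduct.RightExactness
import Mathlib.RingTheory.Flat.Basic
import Mathlib.RingTheory.LocalRing.Module

/-! Linear algebra behind the functors `M ↦ H(P ⊗ M)`: three term pieces
`P₂ --a--> P₁ --b--> P₀` and the cokernels of `a`, `b`. -/

universe u

open TensorProduct LinearMap Function

namespace Groth.Agent.TFun

variable {A : Type u} [CommRing A]

theorem comm {X Y M N : Type u} [AddCommGroup X] [Module A X] [AddCommGroup Y] [Module A Y]
    [AddCommGroup M] [Module A M] [AddCommGroup N] [Module A N]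
    (f : X →ₗ[A] Y) (g : M →ₗ[A] N) (x : X ⊗[A] M) :
    f.rTensor N (g.lTensor X x) = g.lTensor Y (f.rTensor M x) := by
  rw [← LinearMap.comp_apply, ← LinearMap.comp_apply, rTensor_comp_lTensor, lTensor_comp_rTensor]

variable {P2 P1 P0 : Type u} [AddCommGroup P2] [Module A P2] [AddCommGroup P1] [Module A P1]
  [AddCommGroup P0] [Module A P0] (a : P2 →ₗ[A] P1) (b : P1 →ₗ[A] P0)

theorem mkQ_rTensor_eq_zero_iff (M : Type u) [AddCommGroup M] [Module A M] (y : P1 ⊗[A] M) :
    (range a).mkQ.rTensor M y = 0 ↔ y ∈ range (a.rTensor M) :=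
  (rTensor_exact M a.exact_map_mkQ_range (Submodule.mkQ_surjective _)) y

theorem coker_lTensor_injective_iff {M N : Type u} [AddCommGroup M] [Module A M] [AddCommGroup N]
    [Module A N] (g : M →ₗ[A] N) :
    Injective (g.lTensor (P1 ⧸ range a)) ↔
      ∀ y, g.lTensor P1 y ∈ range (a.rTensor N) → y ∈ range (a.rTensor M) := by
  constructor
  · intro h y hy
    rw [← mkQ_rTensor_eq_zero_iff] at hy ⊢
    exact h (by rw [← comm, hy, map_zero])
  · intro h
    rw [injective_iff_map_eq_zero]
    intro z hz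
    obtain ⟨y, rfl⟩ := rTensor_surjective M (Submodule.mkQ_surjective (range a)) z
    rw [mkQ_rTensor_eq_zero_iff]
    exact h y ((mkQ_rTensor_eq_zero_iff a N _).1 (by rw [comm, hz]))

/-- `M ↦ H(P ⊗ M)` sends injections to injections at `P₁`. -/
def MonoAt : Prop :=
  ∀ (M N : Type u) [AddCommGroup M] [Module A M] [AddCommGroup N] [Module A N] (g : M →ₗ[A] N),
    Injective g → ∀ y : P1 ⊗[A] M, b.rTensor M y = 0 →
      g.lTensor P1 y ∈ range (a.rTensor N) → y ∈ range (a.rTensor M)

/-- lifting of cycles along `g` -/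
def LiftsAt {M N : Type u} [AddCommGroup M] [Module A M] [AddCommGroup N] [Module A N]
    (g : M →ₗ[A] N) : Prop :=
  ∀ x : P1 ⊗[A] N, b.rTensor N x = 0 →
    ∃ y : P1 ⊗[A] M, b.rTensor M y = 0 ∧ g.lTensor P1 y - x ∈ range (a.rTensor N)

/-- `M ↦ H(P ⊗ M)` sends surjections to surjections at `P₁`. -/
def EpiAt : Prop :=
  ∀ (M N : Type u) [AddCommGroup M] [Module A M] [AddCommGroup N] [Module A N] (g : M →ₗ[A] N),
    Surjective g → LiftsAt a b g

theorem monoAt_iff (hab : b ∘ₗ a = 0) [Module.Flat A P0] :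
    MonoAt a b ↔ Module.Flat A (P1 ⧸ range a) := by
  constructor
  · intro h
    refine Module.Flat.iff_lTensor_preserves_injective_linearMap.2 fun M N _ _ _ _ g hg => ?_
    rw [coker_lTensor_injective_iff]
    rintro y ⟨v, hv⟩
    refine h M N g hg y ?_ ⟨v, hv⟩
    apply Module.Flat.lTensor_preserves_injective_linearMap g hg
    rw [← comm, ← hv, ← LinearMap.comp_apply, ← rTensor_comp, hab, rTensor_zero, zero_apply, map_zero]
  · intro h M N _ _ _ _ g hg y _ hy
    exact (coker_lTensor_injective_iff a g).1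
      (Module.Flat.lTensor_preserves_injective_linearMap g hg) y hy

variable {K M N : Type u} [AddCommGroup K] [Module A K] [AddCommGroup M] [Module A M]
  [AddCommGroup N] [Module A N] {ι : K →ₗ[A] M} {g : M →ₗ[A] N}

theorem liftsAt_of_injective (hex : Exact ι g) (hg : Surjective g)
    (h : Injective (ι.lTensor (P0 ⧸ range b))) : LiftsAt a b g := by
  intro x hx
  obtain ⟨y, rfl⟩ := LinearMap.lTensor_surjective P1 hg x
  obtain ⟨w, hw⟩ := (lTensor_exact P0 hex hg _).1 (show g.lTensor P0 (b.rTensor M y) = 0 by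
    rw [← comm, hx])
  obtain ⟨v, hv⟩ := (coker_lTensor_injective_iff b ι).1 h w ⟨y, hw.symm⟩
  refine ⟨y - ι.lTensor P1 v, ?_, ?_⟩
  · rw [map_sub, comm, hv, hw, sub_self]
  · have : g.lTensor P1 (ι.lTensor P1 v) = 0 := (lTensor_exact P1 hex hg _).2 ⟨v, rfl⟩
    rw [map_sub, this, sub_zero, sub_self]
    exact zero_mem _

theorem injective_of_liftsAt (hab : b ∘ₗ a = 0) (hex : Exact ι g) (hg : Surjective g)
    (hι : Injective (ι.lTensor P0)) (h : LiftsAt a b g) :
    Injective (ι.lTensor (P0 ⧸ range b)) := by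
  rw [coker_lTensor_injective_iff]
  rintro w ⟨y, hy⟩
  obtain ⟨y', hy', u, hu⟩ := h (g.lTensor P1 y) (by
    rw [comm, hy]; exact (lTensor_exact P0 hex hg _).2 ⟨w, rfl⟩)
  obtain ⟨u', rfl⟩ := LinearMap.lTensor_surjective P2 hg u
  obtain ⟨v, hv⟩ := (lTensor_exact P1 hex hg (y - y' + a.rTensor M u')).1 (by
    rw [map_add, map_sub, ← comm, hu]; abel)
  refine ⟨v, hι ?_⟩
  have hba : b.rTensor M (a.rTensor M u') = 0 := by
    rw [← LinearMap.comp_apply, ← rTensor_comp, hab, rTensor_zero, zero_apply]
  rw [← comm, hv, map_add, map_sub, hy', hba, sub_zero, add_zero, hy]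

theorem epiAt_iff (hab : b ∘ₗ a = 0) [Module.Flat A P0] :
    EpiAt a b ↔ Module.Flat A (P0 ⧸ range b) := by
  constructor
  · intro h
    refine Module.Flat.iff_lTensor_preserves_injective_linearMap.2 fun M N _ _ _ _ ι hι => ?_
    exact injective_of_liftsAt a b hab ι.exact_map_mkQ_range (Submodule.mkQ_surjective _)
      (Module.Flat.lTensor_preserves_injective_linearMap ι hι)
      (h _ _ _ (Submodule.mkQ_surjective _))
  · intro h M N _ _ _ _ g hg
    exact liftsAt_of_injective a b g.exact_subtype_ker_map hg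
      (Module.Flat.lTensor_preserves_injective_linearMap _ Subtype.val_injective)

theorem finitePresentation_coker [Module.Finite A P1] [Module.Finite A P0] [Module.Free A P0] :
    Module.FinitePresentation A (P0 ⧸ range b) :=
  Module.finitePresentation_of_free_of_surjective (range b).mkQ (Submodule.mkQ_surjective _)
    (by rw [Submodule.ker_mkQ, range_eq_map]; exact (Module.Finite.fg_top).map b)

open IsLocalRing in
/-- Lifting of cycles along `A → k` already forces the cokernel of `b` to be free. -/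
theorem free_of_liftsAt_residue [IsLocalRing A] (hab : b ∘ₗ a = 0) [Module.Finite A P1]
    [Module.Finite A P0] [Module.Free A P0]
    (h : LiftsAt a b (Algebra.linearMap A (ResidueField A))) :
    Module.Free A (P0 ⧸ range b) := by
  have := finitePresentation_coker b
  apply Module.free_of_maximalIdeal_rTensor_injective
  rw [← LinearMap.lTensor_inj_iff_rTensor_inj]
  refine injective_of_liftsAt a b hab ?_ residue_surjective
    (Module.Flat.lTensor_preserves_injective_linearMap _ Subtype.val_injective) h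
  intro x
  simp only [Algebra.linearMap_apply, ResidueField.algebraMap_eq, residue_eq_zero_iff, Set.mem_range,
    Submodule.subtype_apply]
  exact ⟨fun hx => ⟨⟨x, hx⟩, rfl⟩, fun ⟨y, hy⟩ => hy ▸ y.2⟩

end Groth.Agent.TFun
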