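import Groth.Prelude.Def_ega3
import Groth.Agent.TFun.Lin
import Mathlib.Algebra.Homology.ShortComplex.ModuleCat
import Mathlib.Algebra.Category.ModuleCat.EpiMono

/-! Element-wise access to the homology of complexes of modules, and the functors `CohIII.TFun`. -/

universe u

open CategoryTheory CategoryTheory.Limits TensorProduct HomologicalComplex

namespace Groth.Agent.TFun

section homology

variable {R : Type u} [CommRing R] {K L : ChainComplex (ModuleCat.{u} R) ℤ} {r p q : ℤ}

theorem iCycles_injective : Function.Injective (K.iCycles p) :=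
  (ModuleCat.mono_iff_injective _).1 inferInstance

theorem homologyπ_surjective : Function.Surjective (K.homologyπ p) :=
  (ModuleCat.epi_iff_surjective _).1 inferInstance

theorem d_iCycles (z : K.cycles p) : K.d p q (K.iCycles p z) = 0 := by
  exact congr($(K.iCycles_d p q) z)

theorem exists_cycle (hpq : q + 1 = p) (x : K.X p) (hx : K.d p q x = 0) :
    ∃ z : K.cycles p, K.iCycles p z = x := by
  have h := ShortComplex.exact_of_f_is_kernel
    (ShortComplex.mk _ _ (K.iCycles_d p q)) (K.cyclesIsKernel p q ((ComplexShape.down ℤ).next_eq' hpq))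
  exact (ShortComplex.moduleCat_exact_iff _).1 h x hx

theorem homologyπ_eq_zero_iff (hrp : p + 1 = r) (z : K.cycles p) :
    K.homologyπ p z = 0 ↔ K.iCycles p z ∈ LinearMap.range (K.d r p).hom := by
  constructor
  · intro hz
    have h := ShortComplex.exact_of_g_is_cokernel
      (ShortComplex.mk _ _ (K.toCycles_comp_homologyπ r p))
      (K.homologyIsCokernel r p ((ComplexShape.down ℤ).prev_eq' hrp))
    obtain ⟨v, rfl⟩ := (ShortComplex.moduleCat_exact_iff _).1 h z hz
    exact ⟨v, congr($(K.toCycles_i r p) v).symm⟩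
  · rintro ⟨v, hv⟩
    obtain rfl : K.toCycles r p v = z :=
      iCycles_injective (congr($(K.toCycles_i r p) v).trans hv)
    exact congr($(K.toCycles_comp_homologyπ r p) v)

theorem homologyπ_eq_iff (hrp : p + 1 = r) (z z' : K.cycles p) :
    K.homologyπ p z = K.homologyπ p z' ↔
      K.iCycles p z - K.iCycles p z' ∈ LinearMap.range (K.d r p).hom := by
  rw [← sub_eq_zero, ← map_sub, homologyπ_eq_zero_iff hrp, map_sub]

theorem homologyMap_π (φ : K ⟶ L) (z : K.cycles p) :
    ∃ z' : L.cycles p, homologyMap φ p (K.homologyπ p z) = L.homologyπ p z' ∧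
      L.iCycles p z' = φ.f p (K.iCycles p z) :=
  ⟨cyclesMap φ p z, congr($(homologyπ_naturality φ p) z), congr($(cyclesMap_i φ p) z)⟩

theorem surjective_homologyMap_iff (hrp : p + 1 = r) (hpq : q + 1 = p) (φ : K ⟶ L) :
    Function.Surjective (homologyMap φ p).hom ↔
      ∀ x : L.X p, L.d p q x = 0 →
        ∃ y : K.X p, K.d p q y = 0 ∧ φ.f p y - x ∈ LinearMap.range (L.d r p).hom := by
  constructor
  · intro h x hx
    obtain ⟨z, rfl⟩ := exists_cycle hpq x hx
    obtain ⟨a, ha⟩ := h (L.homologyπ p z)
    obtain ⟨w, rfl⟩ := homologyπ_surjective a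
    obtain ⟨z', h1, h2⟩ := homologyMap_π φ w
    refine ⟨K.iCycles p w, d_iCycles w, ?_⟩
    rw [← h2, ← homologyπ_eq_iff hrp, ← h1]
    exact ha
  · intro h c
    obtain ⟨z, rfl⟩ := homologyπ_surjective c
    obtain ⟨y, hy, hyz⟩ := h _ (d_iCycles z)
    obtain ⟨w, rfl⟩ := exists_cycle hpq y hy
    obtain ⟨z', h1, h2⟩ := homologyMap_π φ w
    exact ⟨K.homologyπ p w, h1.trans ((homologyπ_eq_iff hrp _ _).2 (by rw [h2]; exact hyz))⟩

theorem injective_homologyMap_iff (hrp : p + 1 = r) (hpq : q + 1 = p) (φ : K ⟶ L) :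
    Function.Injective (homologyMap φ p).hom ↔
      ∀ y : K.X p, K.d p q y = 0 → φ.f p y ∈ LinearMap.range (L.d r p).hom →
        y ∈ LinearMap.range (K.d r p).hom := by
  rw [injective_iff_map_eq_zero]
  constructor
  · intro h y hy hmem
    obtain ⟨w, rfl⟩ := exists_cycle hpq y hy
    obtain ⟨z', h1, h2⟩ := homologyMap_π φ w
    rw [← homologyπ_eq_zero_iff hrp]
    apply h
    refine h1.trans ?_
    rw [homologyπ_eq_zero_iff hrp, h2]
    exact hmem
  · intro h c hc
    obtain ⟨w, rfl⟩ := homologyπ_surjective c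
    obtain ⟨z', h1, h2⟩ := homologyMap_π φ w
    rw [homologyπ_eq_zero_iff hrp]
    refine h _ (d_iCycles w) ?_
    rw [← h2, ← homologyπ_eq_zero_iff hrp, ← h1]
    exact hc

theorem isZero_homology_iff (hrp : p + 1 = r) (hpq : q + 1 = p) :
    IsZero (K.homology p) ↔ ∀ y, K.d p q y = 0 → y ∈ LinearMap.range (K.d r p).hom := by
  rw [ModuleCat.isZero_iff_subsingleton, subsingleton_iff_forall_eq 0]
  constructor
  · intro h y hy
    obtain ⟨w, rfl⟩ := exists_cycle hpq y hy
    exact (homologyπ_eq_zero_iff hrp w).1 (h _)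
  · intro h c
    obtain ⟨w, rfl⟩ := homologyπ_surjective c
    exact (homologyπ_eq_zero_iff hrp w).2 (h _ (d_iCycles w))

/-- `X p / range (d r p)` is the module of opcycles. -/
noncomputable def opcyclesEquiv (hrp : p + 1 = r) :
    K.opcycles p ≃ₗ[R] (K.X p ⧸ LinearMap.range (K.d r p).hom) := by
  obtain rfl : (ComplexShape.down ℤ).prev p = r := (ComplexShape.down ℤ).prev_eq' hrp
  exact (K.sc p).moduleCatOpcyclesIso.toLinearEquiv

end homology

section tfun

variable {A : Type u} [CommRing A] (P : ChainComplex (ModuleCat.{u} A) ℤ) {r p q : ℤ}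

theorem d_d : (P.d p q).hom ∘ₗ (P.d r p).hom = 0 := by
  rw [← ModuleCat.hom_comp, P.d_comp_d, ModuleCat.hom_zero]

/-- the cokernel `P_p / im d_{r p}` -/
abbrev coker (r p : ℤ) : Type u := P.X p ⧸ LinearMap.range (P.d r p).hom

theorem surjective_map_iff (hrp : p + 1 = r) (hpq : q + 1 = p) {M N : ModuleCat.{u} A} (g : M ⟶ N) :
    Function.Surjective ((CohIII.TFun P p).map g).hom ↔
      LiftsAt (P.d r p).hom (P.d p q).hom g.hom :=
  surjective_homologyMap_iff hrp hpq (CohIII.tensorMap P g)

theorem injective_map_iff (hrp : p + 1 = r) (hpq : q + 1 = p) {M N : ModuleCat.{u} A} (g : M ⟶ N) :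
    Function.Injective ((CohIII.TFun P p).map g).hom ↔
      ∀ y, (P.d p q).hom.rTensor M y = 0 →
        g.hom.lTensor (P.X p) y ∈ LinearMap.range ((P.d r p).hom.rTensor N) →
          y ∈ LinearMap.range ((P.d r p).hom.rTensor M) :=
  injective_homologyMap_iff hrp hpq (CohIII.tensorMap P g)

theorem isZero_obj_iff (hrp : p + 1 = r) (hpq : q + 1 = p) (M : ModuleCat.{u} A) :
    IsZero ((CohIII.TFun P p).obj M) ↔
      ∀ y, (P.d p q).hom.rTensor M y = 0 → y ∈ LinearMap.range ((P.d r p).hom.rTensor M) :=
  isZero_homology_iff hrp hpq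

theorem preservesEpi_iff' (hrp : p + 1 = r) (hpq : q + 1 = p) :
    (CohIII.TFun P p).PreservesEpimorphisms ↔ EpiAt (P.d r p).hom (P.d p q).hom := by
  constructor
  · intro h M N _ _ _ _ g hg
    have : Epi (ModuleCat.ofHom g) := (ModuleCat.epi_iff_surjective _).2 hg
    exact (surjective_map_iff P hrp hpq (ModuleCat.ofHom g)).1
      ((ModuleCat.epi_iff_surjective _).1 (h.preserves _))
  · intro h
    exact ⟨fun g hg => (ModuleCat.epi_iff_surjective _).2
      ((surjective_map_iff P hrp hpq g).2 (h _ _ _ ((ModuleCat.epi_iff_surjective _).1 hg)))⟩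

theorem preservesMono_iff' (hrp : p + 1 = r) (hpq : q + 1 = p) :
    (CohIII.TFun P p).PreservesMonomorphisms ↔ MonoAt (P.d r p).hom (P.d p q).hom := by
  constructor
  · intro h M N _ _ _ _ g hg
    have : Mono (ModuleCat.ofHom g) := (ModuleCat.mono_iff_injective _).2 hg
    exact (injective_map_iff P hrp hpq (ModuleCat.ofHom g)).1
      ((ModuleCat.mono_iff_injective _).1 (h.preserves _))
  · intro h
    exact ⟨fun g hg => (ModuleCat.mono_iff_injective _).2
      ((injective_map_iff P hrp hpq g).2 (h _ _ _ ((ModuleCat.mono_iff_injective _).1 hg)))⟩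

/-- `T_p` preserves monomorphisms iff the cokernel of `P_{p+1} → P_p` is flat. -/
theorem preservesMono_iff (hP : ∀ i, Module.Flat A (P.X i)) (hrp : p + 1 = r) :
    (CohIII.TFun P p).PreservesMonomorphisms ↔ Module.Flat A (coker P r p) := by
  have := hP (p - 1)
  exact (preservesMono_iff' P hrp (sub_add_cancel p 1)).trans (monoAt_iff _ _ (d_d P))

/-- `T_p` preserves epimorphisms iff the cokernel of `P_p → P_{p-1}` is flat. -/
theorem preservesEpi_iff (hP : ∀ i, Module.Flat A (P.X i)) (hpq : q + 1 = p) :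
    (CohIII.TFun P p).PreservesEpimorphisms ↔ Module.Flat A (coker P p q) := by
  have := hP q
  exact (preservesEpi_iff' P rfl hpq).trans (epiAt_iff _ _ (d_d P))

/-- For finitely generated flat terms over a local ring, lifting cycles along `A → k` suffices. -/
theorem free_coker_of_surjective_residue [IsLocalRing A]
    (hP : ∀ i, Module.Finite A (P.X i) ∧ Module.Flat A (P.X i)) (hpq : q + 1 = p)
    (h : Function.Surjective ((CohIII.TFun P p).map
      (ModuleCat.ofHom (Algebra.linearMap A (IsLocalRing.ResidueField A)))).hom) :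
    Module.Free A (coker P p q) := by
  have := (hP p).1
  have := (hP q).1
  have := (hP q).2
  have : Module.Free A (P.X q) := Module.free_of_flat_of_isLocalRing
  exact free_of_liftsAt_residue _ _ (d_d P) ((surjective_map_iff P rfl hpq _).1 h)

theorem preservesEpi_iff_surjective_residue [IsLocalRing A]
    (hP : ∀ i, Module.Finite A (P.X i) ∧ Module.Flat A (P.X i)) (p : ℤ) :
    (CohIII.TFun P p).PreservesEpimorphisms ↔ Function.Surjective ((CohIII.TFun P p).map
      (ModuleCat.ofHom (Algebra.linearMap A (IsLocalRing.ResidueField A)))).hom := by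
  constructor
  · intro h
    have : Epi (ModuleCat.ofHom (Algebra.linearMap A (IsLocalRing.ResidueField A))) :=
      (ModuleCat.epi_iff_surjective _).2 IsLocalRing.residue_surjective
    exact (ModuleCat.epi_iff_surjective _).1 (h.preserves _)
  · intro h
    have := free_coker_of_surjective_residue P hP (sub_add_cancel p 1) h
    exact (preservesEpi_iff P (fun i => (hP i).2) (sub_add_cancel p 1)).2 inferInstance

theorem preservesEpi_iff_preservesMono (hP : ∀ i, Module.Flat A (P.X i)) (hpq : q + 1 = p) :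
    (CohIII.TFun P p).PreservesEpimorphisms ↔ (CohIII.TFun P q).PreservesMonomorphisms :=
  (preservesEpi_iff P hP hpq).trans (preservesMono_iff P hP hpq).symm

end tfun

end Groth.Agent.TFun
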