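import Groth.Agent.TFun.Flat
import Groth.Agent.TFun.BaseChange
import Groth.Agent.TFun.Rank

/-! `H_p(P ⊗ M)` and `H_p(P_B)` as the kernel of `C_p ⊗ - → P_{p-1} ⊗ -`, `C_p = P_p / im d`. -/

universe u

open CategoryTheory CategoryTheory.Limits TensorProduct HomologicalComplex Function

namespace Groth.Agent.TFun

/-- Two left-exact sequences with the same map have isomorphic kernels. -/
theorem exists_equiv_of_exact {R : Type u} [CommRing R] {H H' C D : Type u} [AddCommGroup H]
    [Module R H] [AddCommGroup H'] [Module R H'] [AddCommGroup C] [Module R C] [AddCommGroup D]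
    [Module R D] {i : H →ₗ[R] C} {j : H' →ₗ[R] C} {f : C →ₗ[R] D} (hi : Injective i)
    (hj : Injective j) (hif : Exact i f) (hjf : Exact j f) :
    ∃ e : H ≃ₗ[R] H', ∀ x, j (e x) = i x := by
  have h : LinearMap.range i = LinearMap.range j := by
    rw [← hif.linearMap_ker_eq, ← hjf.linearMap_ker_eq]
  refine ⟨(LinearEquiv.ofInjective i hi).trans
    ((LinearEquiv.ofEq _ _ h).trans (LinearEquiv.ofInjective j hj).symm), fun x => ?_⟩
  exact congrArg Subtype.val ((LinearEquiv.ofInjective j hj).apply_symm_apply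
    (LinearEquiv.ofEq _ _ h (LinearEquiv.ofInjective i hi x)))

theorem swap_rTensor {A : Type u} [CommRing A] {X Y M : Type u} [AddCommGroup X] [Module A X]
    [AddCommGroup Y] [Module A Y] [AddCommGroup M] [Module A M] (f : X →ₗ[A] Y) (x : X ⊗[A] M) :
    TensorProduct.comm A Y M (f.rTensor M x) = f.lTensor M (TensorProduct.comm A X M x) := by
  induction x using TensorProduct.induction_on with
  | zero => simp
  | tmul a b => simp
  | add a b ha hb => simp [map_add, ha, hb]

variable {A : Type u} [CommRing A] (P : ChainComplex (ModuleCat.{u} A) ℤ) {r p q : ℤ}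

/-- `(P_p ⊗ M) / im = C_p ⊗ M`. -/
noncomputable def cokerTensorEquiv (M : ModuleCat.{u} A) (r p : ℤ) :
    coker (CohIII.tensorObj P M) r p ≃ₗ[A] coker P r p ⊗[A] M :=
  let f := (P.d r p).hom
  let g := (LinearMap.range f).mkQ.rTensor M
  (Submodule.quotEquivOfEq _ _ (show LinearMap.range (f.rTensor M) = LinearMap.ker g by
    ext x
    exact ((rTensor_exact (↑M) f.exact_map_mkQ_range (Submodule.mkQ_surjective _)) x).symm)).trans
    (g.quotKerEquivOfSurjective (LinearMap.rTensor_surjective _ (Submodule.mkQ_surjective _)))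

theorem cokerTensorEquiv_mk (M : ModuleCat.{u} A) (y : P.X p ⊗[A] M) :
    cokerTensorEquiv P M r p (Submodule.Quotient.mk y) =
      (LinearMap.range (P.d r p).hom).mkQ.rTensor M y := rfl

/-- `T_p(M) → C_p ⊗ M`. -/
noncomputable def tι (hrp : p + 1 = r) (M : ModuleCat.{u} A) :
    (CohIII.TFun P p).obj M →ₗ[A] coker P r p ⊗[A] M :=
  (cokerTensorEquiv P M r p).toLinearMap ∘ₗ homologyToCoker (CohIII.tensorObj P M) hrp

theorem tι_π (hrp : p + 1 = r) (M : ModuleCat.{u} A) (z : (CohIII.tensorObj P M).cycles p) :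
    tι P hrp M ((CohIII.tensorObj P M).homologyπ p z) =
      (LinearMap.range (P.d r p).hom).mkQ.rTensor M ((CohIII.tensorObj P M).iCycles p z) :=
  (congrArg (cokerTensorEquiv P M r p) (homologyToCoker_π (CohIII.tensorObj P M) hrp z)).trans
    (cokerTensorEquiv_mk P M _)

theorem tι_injective (hrp : p + 1 = r) (M : ModuleCat.{u} A) : Injective (tι P hrp M) :=
  (cokerTensorEquiv P M r p).injective.comp (homologyToCoker_injective _ hrp)

theorem tι_exact (hrp : p + 1 = r) (hpq : q + 1 = p) (M : ModuleCat.{u} A) :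
    Exact (tι P hrp M) ((toPred P r p q).rTensor M) := by
  intro c
  obtain ⟨c, rfl⟩ := (cokerTensorEquiv P M r p).surjective c
  have h : (toPred P r p q).rTensor M (cokerTensorEquiv P M r p c) =
      toPred (CohIII.tensorObj P M) r p q c := by
    obtain ⟨y, rfl⟩ := Submodule.Quotient.mk_surjective _ c
    exact (DFunLike.congr_fun
      (LinearMap.rTensor_comp (↑M) (toPred P r p q) (LinearMap.range (P.d r p).hom).mkQ) _).symm
  rw [h]
  refine (exact_homologyToCoker_toPred (CohIII.tensorObj P M) hrp hpq c).trans ?_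
  refine ⟨fun ⟨x, hx⟩ => ⟨x, congrArg (cokerTensorEquiv P M r p) hx⟩, fun ⟨x, hx⟩ =>
    ⟨x, (cokerTensorEquiv P M r p).injective hx⟩⟩

theorem tι_natural (hrp : p + 1 = r) {M N : ModuleCat.{u} A} (g : M ⟶ N)
    (x : (CohIII.TFun P p).obj M) :
    tι P hrp N ((CohIII.TFun P p).map g x) = g.hom.lTensor _ (tι P hrp M x) := by
  obtain ⟨z, rfl⟩ := homologyπ_surjective (K := CohIII.tensorObj P M) (p := p) x
  obtain ⟨z', h1, h2⟩ := homologyMap_π (CohIII.tensorMap P g) z
  rw [tι_π]
  refine (congrArg (tι P hrp N) h1).trans ?_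
  rw [tι_π, h2]
  exact comm _ g.hom _

/-- `M ⊗ H_p → M ⊗ C_p` is the kernel when `M` or `C_{p-1}` is flat. -/
theorem lTensor_homologyToCoker_exact (hrp : p + 1 = r) (hpq : q + 1 = p)
    (hX : Module.Flat A (P.X q)) (M : Type u) [AddCommGroup M] [Module A M]
    (h : Module.Flat A M ∨ Module.Flat A (coker P p q)) :
    Injective ((homologyToCoker P hrp).lTensor M) ∧
      Exact ((homologyToCoker P hrp).lTensor M) ((toPred P r p q).lTensor M) := by
  rcases h with h | h
  · exact ⟨Module.Flat.lTensor_preserves_injective_linearMap _ (homologyToCoker_injective P hrp),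
      Module.Flat.lTensor_exact M (exact_homologyToCoker_toPred P hrp hpq)⟩
  · have := flat_range_toPred P (r := r) hX h
    have hex := exact_homologyToCoker_rangeRestrict P hrp hpq
    have hs := (toPred P r p q).surjective_rangeRestrict
    refine ⟨LinearMap.lTensor_injective_of_exact_of_flat _ hs _
      (homologyToCoker_injective P hrp) hex M, fun c => ?_⟩
    rw [← lTensor_exact M hex hs c]
    have hsub : Injective ((LinearMap.range (toPred P r p q)).subtype.lTensor M) := by
      have hflat : Module.Flat A (P.X q ⧸ LinearMap.range (toPred P r p q)) := by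
        rw [range_toPred]; exact h
      exact LinearMap.lTensor_injective_of_exact_of_flat _ (Submodule.mkQ_surjective _) _
        Subtype.val_injective (LinearMap.exact_subtype_mkQ _) M
    have hcomp : (toPred P r p q).lTensor M c = (LinearMap.range (toPred P r p q)).subtype.lTensor M
        ((toPred P r p q).rangeRestrict.lTensor M c) := by
      rw [← LinearMap.comp_apply, ← LinearMap.lTensor_comp, LinearMap.subtype_comp_codRestrict]
    rw [hcomp, map_eq_zero_iff _ hsub]

/-- `T_p(M) ≅ H_p ⊗ M` when `M` or `C_{p-1}` is flat, compatibly with `tι`. -/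
theorem exists_obj_equiv_tensor (hrp : p + 1 = r) (hpq : q + 1 = p)
    (hX : Module.Flat A (P.X q)) (M : ModuleCat.{u} A)
    (h : Module.Flat A M ∨ Module.Flat A (coker P p q)) :
    ∃ e : (CohIII.TFun P p).obj M ≃ₗ[A] P.homology p ⊗[A] M,
      ∀ x, (homologyToCoker P hrp).rTensor M (e x) = tι P hrp M x := by
  obtain ⟨hi, hex⟩ := lTensor_homologyToCoker_exact P hrp hpq hX M h
  have hi' : Injective ((homologyToCoker P hrp).rTensor M) :=
    (LinearMap.lTensor_inj_iff_rTensor_inj _ _).1 hi
  have hex' : Exact ((homologyToCoker P hrp).rTensor M) ((toPred P r p q).rTensor M) := by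
    rw [LinearMap.exact_iff] at hex ⊢
    ext c
    rw [LinearMap.mem_ker, LinearMap.mem_range]
    constructor
    · intro hc
      have : TensorProduct.comm A (coker P r p) M c ∈ LinearMap.ker ((toPred P r p q).lTensor M) := by
        rw [LinearMap.mem_ker, ← swap_rTensor, hc, map_zero]
      rw [hex] at this
      obtain ⟨w, hw⟩ := this
      refine ⟨(TensorProduct.comm A _ M).symm w, (TensorProduct.comm A _ M).injective ?_⟩
      rw [swap_rTensor, LinearEquiv.apply_symm_apply, hw]
    · rintro ⟨w, rfl⟩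
      apply (TensorProduct.comm A _ M).injective
      rw [swap_rTensor, swap_rTensor, map_zero, ← LinearMap.mem_ker, hex]
      exact ⟨_, rfl⟩
  exact exists_equiv_of_exact (tι_injective P hrp M) hi' (tι_exact P hrp hpq M) hex'

section bc

theorem exists_bcι_aux {B : Type u} [CommRing B] (φ : A →+* B) (hrp : p + 1 = r) (hpq : q + 1 = p) :
    letI := φ.toAlgebra
    ∃ ι : (CohIII.bcCx φ P).homology p →ₗ[B] B ⊗[A] coker P r p,
      Injective ι ∧ Exact ι ((toPred P r p q).baseChange B) := by
  let := φ.toAlgebra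
  let f := (P.d r p).hom
  let g := (LinearMap.range f).mkQ.baseChange B
  have hs : Surjective g := LinearMap.lTensor_surjective B (Submodule.mkQ_surjective _)
  have hk : LinearMap.range (f.baseChange B) = LinearMap.ker g := by
    ext x
    exact ((lTensor_exact B f.exact_map_mkQ_range (Submodule.mkQ_surjective _)) x).symm
  let e : coker (CohIII.bcCx φ P) r p ≃ₗ[B] B ⊗[A] coker P r p :=
    (Submodule.quotEquivOfEq _ _ hk).trans (g.quotKerEquivOfSurjective hs)
  refine ⟨e.toLinearMap ∘ₗ homologyToCoker (CohIII.bcCx φ P) hrp,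
    e.injective.comp (homologyToCoker_injective _ hrp), fun c => ?_⟩
  obtain ⟨c, rfl⟩ := e.surjective c
  have h : (toPred P r p q).baseChange B (e c) = toPred (CohIII.bcCx φ P) r p q c := by
    obtain ⟨y, rfl⟩ := Submodule.Quotient.mk_surjective _ c
    change (toPred P r p q).baseChange B ((LinearMap.range f).mkQ.baseChange B y) = _
    exact (DFunLike.congr_fun (LinearMap.baseChange_comp (A := B)
      (g := toPred P r p q) (LinearMap.range f).mkQ) _).symm
  rw [h]
  refine (exact_homologyToCoker_toPred (CohIII.bcCx φ P) hrp hpq c).trans ?_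
  exact ⟨fun ⟨x, hx⟩ => ⟨x, congrArg e hx⟩, fun ⟨x, hx⟩ => ⟨x, e.injective hx⟩⟩

/-- `H_p(P_B) → B ⊗ C_p` is the kernel of `B ⊗ C_p → B ⊗ P_{p-1}`. -/
theorem exists_bcι (B : Type u) [CommRing B] [inst : Algebra A B] (hrp : p + 1 = r)
    (hpq : q + 1 = p) :
    ∃ ι : (CohIII.bcCx (algebraMap A B) P).homology p →ₗ[B] B ⊗[A] coker P r p,
      Injective ι ∧ Exact ι ((toPred P r p q).baseChange B) := by
  have key : inst = (algebraMap A B).toAlgebra := Algebra.algebra_ext _ _ fun _ => rfl
  have h := exists_bcι_aux P (algebraMap A B) hrp hpq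
  rw [← key] at h
  exact h

/-- `H_p(P_B) ≅ B ⊗ H_p(P)` when `B` or `C_{p-1}` is flat. -/
theorem nonempty_homology_bc_equiv (B : Type u) [CommRing B] [Algebra A B] (hrp : p + 1 = r)
    (hpq : q + 1 = p) (hX : Module.Flat A (P.X q))
    (h : Module.Flat A B ∨ Module.Flat A (coker P p q)) :
    Nonempty ((CohIII.bcCx (algebraMap A B) P).homology p ≃ₗ[B] B ⊗[A] P.homology p) := by
  obtain ⟨ι, hι, hex⟩ := exists_bcι P B hrp hpq
  obtain ⟨hi, hex'⟩ := lTensor_homologyToCoker_exact P hrp hpq hX B h
  exact ⟨(exists_equiv_of_exact (j := (homologyToCoker P hrp).baseChange B) hι hi hex hex').choose⟩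

theorem finrank_homology_bc_eq (κ : Type u) [Field κ] [Algebra A κ] (hrp : p + 1 = r)
    (hpq : q + 1 = p) (hX : Module.Flat A (P.X q))
    (h : Module.Flat A κ ∨ Module.Flat A (coker P p q)) :
    Module.finrank κ ((CohIII.bcCx (algebraMap A κ) P).homology p) =
      Module.finrank κ (κ ⊗[A] P.homology p) :=
  (nonempty_homology_bc_equiv P κ hrp hpq hX h).some.finrank_eq

theorem dRank_eq_fibreDim (hP : ∀ i, Module.Flat A (P.X i)) (hrp : p + 1 = r) (hpq : q + 1 = p)
    (h : Module.Flat A (coker P p q)) (x : PrimeSpectrum A) :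
    CohIII.dRank P p x = fibreDim (P.homology p) x :=
  finrank_homology_bc_eq P x.asIdeal.ResidueField hrp hpq (hP q) (.inr h)

/-- Composite base change. -/
noncomputable def bcCompIso {B D : Type u} [CommRing B] [CommRing D] (φ : A →+* B) (ψ : B →+* D) :
    CohIII.bcCx ψ (CohIII.bcCx φ P) ≅ CohIII.bcCx (ψ.comp φ) P :=
  HomologicalComplex.Hom.isoOfComponents
    (fun i => ((ModuleCat.extendScalarsComp φ ψ).app (P.X i)).symm)
    (fun i j _ => ((ModuleCat.extendScalarsComp φ ψ).inv.naturality (P.d i j)).symm)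

theorem finrank_homology_bc_comp {B D : Type u} [CommRing B] [CommRing D] (φ : A →+* B)
    (ψ : B →+* D) (p : ℤ) :
    Module.finrank D ((CohIII.bcCx ψ (CohIII.bcCx φ P)).homology p) =
      Module.finrank D ((CohIII.bcCx (ψ.comp φ) P).homology p) :=
  ((homologyFunctor _ _ p).mapIso (bcCompIso P φ ψ)).toLinearEquiv.finrank_eq

/-- Dimensions of homology do not change under field extensions. -/
theorem finrank_homology_field_ext {κ κ' : Type u} [Field κ] [Field κ'] [Algebra κ κ']
    (K : ChainComplex (ModuleCat.{u} κ) ℤ) (p : ℤ) :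
    Module.finrank κ' ((CohIII.bcCx (algebraMap κ κ') K).homology p) =
      Module.finrank κ (K.homology p) := by
  rw [finrank_homology_bc_eq K κ' (r := p + 1) rfl (sub_add_cancel p 1) inferInstance
    (.inl inferInstance), Module.finrank_baseChange]

theorem finrank_homology_factor {κ κ' : Type u} [Field κ] [Field κ'] [Algebra κ κ']
    (φ : A →+* κ) (p : ℤ) :
    Module.finrank κ' ((CohIII.bcCx ((algebraMap κ κ').comp φ) P).homology p) =
      Module.finrank κ ((CohIII.bcCx φ P).homology p) := by
  rw [← finrank_homology_bc_comp, finrank_homology_field_ext]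

end bc

end Groth.Agent.TFun
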