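import Groth.Agent.TFun.Bounded
import Mathlib.RingTheory.Spectrum.Prime.Noetherian

/-! The ranks are locally constant on a dense open set. -/

universe u

open CategoryTheory CategoryTheory.Limits TensorProduct HomologicalComplex Function Topology

namespace Groth.Agent.TFun

variable {A : Type u} [CommRing A] (P : ChainComplex (ModuleCat.{u} A) ℤ)

theorem dRank_bc {B : Type u} [CommRing B] (φ : A →+* B) (p : ℤ) (y : PrimeSpectrum B) :
    CohIII.dRank (CohIII.bcCx φ P) p y = CohIII.dRank P p (PrimeSpectrum.comap φ y) := by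
  let x := PrimeSpectrum.comap φ y
  let ι : x.asIdeal.ResidueField →+* y.asIdeal.ResidueField :=
    Ideal.ResidueField.map x.asIdeal y.asIdeal φ rfl
  let _ := ι.toAlgebra
  have h : (algebraMap B y.asIdeal.ResidueField).comp φ =
      (algebraMap x.asIdeal.ResidueField y.asIdeal.ResidueField).comp
        (algebraMap A x.asIdeal.ResidueField) :=
    RingHom.ext fun a => (Ideal.ResidueField.map_algebraMap _ _ φ rfl a).symm
  change Module.finrank _ _ = Module.finrank _ _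
  rw [finrank_homology_bc_comp, h, finrank_homology_factor]

/-- `H_n(P_B) ≅ T_n(B)` as `A`-modules, so it is finite. -/
theorem finite_homology_bc [IsNoetherianRing A] (hP : ∀ i, Module.Flat A (P.X i)) (i₀ : ℤ)
    (hb : ∀ i < i₀, IsZero (P.X i)) (hfg : ∀ n, Module.Finite A (P.homology n))
    (B : Type u) [CommRing B] [Algebra A B] [Module.Finite A B] (n : ℤ) :
    Module.Finite B ((CohIII.bcCx (algebraMap A B) P).homology n) := by
  have hT := finite_T P hP i₀ hb hfg n B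
  obtain ⟨ι, hι, hex⟩ := exists_bcι P B (r := n + 1) rfl (sub_add_cancel n 1)
  have hker : Module.Finite B (LinearMap.ker ((toPred P (n + 1) n (n - 1)).baseChange B)) := by
    have h1 : Module.Finite A (LinearMap.ker ((toPred P (n + 1) n (n - 1)).rTensor B)) := by
      rw [(tι_exact P (r := n + 1) rfl (sub_add_cancel n 1) (ModuleCat.of A B)).linearMap_ker_eq]
      exact Module.Finite.range _
    let e : LinearMap.ker ((toPred P (n + 1) n (n - 1)).rTensor B) →ₗ[A]
        LinearMap.ker (((toPred P (n + 1) n (n - 1)).baseChange B).restrictScalars A) :=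
      ((TensorProduct.comm A _ B).toLinearMap ∘ₗ Submodule.subtype _).codRestrict _ fun z => by
        change (toPred P (n + 1) n (n - 1)).lTensor B (TensorProduct.comm A _ B z.1) = 0
        rw [← swap_rTensor, z.2, map_zero]
    have hs : Surjective e := fun z => by
      refine ⟨⟨(TensorProduct.comm A _ B).symm z.1, ?_⟩, Subtype.ext ?_⟩
      · rw [LinearMap.mem_ker]
        apply (TensorProduct.comm A _ B).injective
        rw [swap_rTensor, LinearEquiv.apply_symm_apply, map_zero]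
        exact z.2
      · exact (TensorProduct.comm A _ B).apply_symm_apply _
    have h2 : Module.Finite A
        (LinearMap.ker (((toPred P (n + 1) n (n - 1)).baseChange B).restrictScalars A)) :=
      Module.Finite.of_surjective e hs
    have h3 : Module.Finite A (LinearMap.ker ((toPred P (n + 1) n (n - 1)).baseChange B)) := h2
    exact Module.Finite.of_restrictScalars_finite A B _
  rw [hex.linearMap_ker_eq] at hker
  exact Module.Finite.equiv (LinearEquiv.ofInjective ι hι).symm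

theorem exists_basicOpen_const [IsNoetherianRing A] (hP : ∀ i, Module.Flat A (P.X i)) (i₀ : ℤ)
    (hb : ∀ i < i₀, IsZero (P.X i)) (hfg : ∀ n, Module.Finite A (P.homology n)) (N : ℤ)
    (𝔭 : Ideal A) [h𝔭 : 𝔭.IsPrime] :
    ∃ f ∉ 𝔭, ∀ x : PrimeSpectrum A, 𝔭 ≤ x.asIdeal → f ∉ x.asIdeal → ∀ p ≤ N,
      CohIII.dRank P p x = CohIII.dRank P p ⟨𝔭, h𝔭⟩ := by
  let R := A ⧸ 𝔭
  let Q := CohIII.bcCx (algebraMap A R) P
  have hQ := flat_bc_X P (algebraMap A R) hP
  have hfp : ∀ n, Module.FinitePresentation R (Q.homology n) := fun n =>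
    have := finite_homology_bc P hP i₀ hb hfg R n
    Module.finitePresentation_of_finite R _
  obtain ⟨f, hf, hex⟩ := exists_away_exact Q hQ i₀ (fun i hi => isZero_bc P _ (hb i hi)) hfp N
  obtain ⟨f, rfl⟩ := Ideal.Quotient.mk_surjective f
  have hf𝔭 : f ∉ 𝔭 := fun h => hf (Ideal.Quotient.eq_zero_iff_mem.2 h)
  refine ⟨f, hf𝔭, fun x hx hfx p hp => ?_⟩
  let Rf := Localization.Away (Ideal.Quotient.mk 𝔭 f)
  let W := CohIII.bcCx (algebraMap R Rf) Q
  have : IsDomain Rf :=
    IsLocalization.isDomain_localization (powers_le_nonZeroDivisors_of_noZeroDivisors hf)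
  have hconst : IsLocallyConstant (CohIII.dRank W p) := by
    have := hfp p
    have : Module.FinitePresentation Rf (W.homology p) :=
      Module.FinitePresentation.of_equiv (nonempty_homology_bc_equiv Q Rf (r := p + 1) rfl
        (sub_add_cancel p 1) (hQ _) (.inl inferInstance)).some.symm
    exact isLocallyConstant_dRank_of_fp W (flat_bc_X Q _ hQ) p (hex p hp)
      (Module.FinitePresentation.of_equiv (obj_self W).symm)
  have hlift : ∀ y : PrimeSpectrum A, 𝔭 ≤ y.asIdeal → f ∉ y.asIdeal → ∃ z : PrimeSpectrum Rf,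
      PrimeSpectrum.comap (algebraMap A R) (PrimeSpectrum.comap (algebraMap R Rf) z) = y := by
    intro y hy hfy
    obtain ⟨w, hw⟩ : y ∈ Set.range (PrimeSpectrum.comap (Ideal.Quotient.mk 𝔭)) := by
      rw [range_comap_of_surjective _ _ Ideal.Quotient.mk_surjective, Ideal.mk_ker]
      exact hy
    have hfw : Ideal.Quotient.mk 𝔭 f ∉ w.asIdeal := fun h => hfy (hw ▸ h)
    obtain ⟨z, hz⟩ : w ∈ Set.range (PrimeSpectrum.comap (algebraMap R Rf)) := by
      rw [PrimeSpectrum.localization_away_comap_range Rf (Ideal.Quotient.mk 𝔭 f)]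
      exact hfw
    exact ⟨z, by rw [hz]; exact hw⟩
  obtain ⟨z, hz⟩ := hlift x hx hfx
  obtain ⟨z', hz'⟩ := hlift ⟨𝔭, h𝔭⟩ le_rfl hf𝔭
  rw [← hz, ← hz', ← dRank_bc, ← dRank_bc, ← dRank_bc, ← dRank_bc]
  exact hconst.apply_eq_of_preconnectedSpace z z'

theorem exists_dense_open [IsNoetherianRing A] (hP : ∀ i, Module.Flat A (P.X i)) (i₀ : ℤ)
    (hb : ∀ i < i₀, IsZero (P.X i))
    (hfg : ∀ n : ℤ, Module.Finite A (CohIII.T P n (ModuleCat.of A A))) (N : ℤ) :
    ∃ U : Set (PrimeSpectrum A), IsOpen U ∧ Dense U ∧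
      ∀ p ≤ N, IsLocallyConstant (fun x : U => CohIII.dRank P p x) := by
  classical
  have hfg' : ∀ n, Module.Finite A (P.homology n) := fun n => by
    have : Module.Finite A ((CohIII.TFun P n).obj (ModuleCat.of A A)) := hfg n
    exact Module.Finite.equiv (obj_self P)
  choose f hf hconst using fun 𝔭 : {q : Ideal A // q ∈ minimalPrimes A} =>
    exists_basicOpen_const P hP i₀ hb hfg' N 𝔭.1 (h𝔭 := 𝔭.2.1.1)
  have hfin : Finite {q : Ideal A // q ∈ minimalPrimes A} :=
    (minimalPrimes.finite_of_isNoetherianRing A).to_subtype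
  let U : {q : Ideal A // q ∈ minimalPrimes A} → Set (PrimeSpectrum A) := fun 𝔭 =>
    (PrimeSpectrum.basicOpen (f 𝔭) : Set _) ∩
      (⋃ 𝔮 : {q : {q : Ideal A // q ∈ minimalPrimes A} // q ≠ 𝔭},
        PrimeSpectrum.zeroLocus (𝔮.1.1 : Set A))ᶜ
  have hU : ∀ 𝔭, IsOpen (U 𝔭) := fun 𝔭 => (PrimeSpectrum.basicOpen (f 𝔭)).2.inter
    (isClosed_iUnion_of_finite fun 𝔮 => PrimeSpectrum.isClosed_zeroLocus _).isOpen_compl
  have hge : ∀ 𝔭, ∀ x ∈ U 𝔭, 𝔭.1 ≤ x.asIdeal := by
    intro 𝔭 x hx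
    obtain ⟨q, hq, hqx⟩ := Ideal.exists_minimalPrimes_le (bot_le : ⊥ ≤ x.asIdeal)
    by_contra hne
    refine hx.2 (Set.mem_iUnion.2 ⟨⟨⟨q, hq⟩, fun h => hne ?_⟩, hqx⟩)
    rw [← h]
    exact hqx
  refine ⟨⋃ 𝔭, U 𝔭, isOpen_iUnion hU, ?_, fun p hp => ?_⟩
  · intro x
    obtain ⟨q, hq, hqx⟩ := Ideal.exists_minimalPrimes_le (bot_le : ⊥ ≤ x.asIdeal)
    have hmem : (⟨q, hq.1.1⟩ : PrimeSpectrum A) ∈ ⋃ 𝔭, U 𝔭 := by
      refine Set.mem_iUnion.2 ⟨⟨q, hq⟩, hf ⟨q, hq⟩, fun h => ?_⟩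
      obtain ⟨⟨⟨q', hq'⟩, hne⟩, hle⟩ := Set.mem_iUnion.1 h
      exact hne (Subtype.ext (le_antisymm hle (hq.2 hq'.1 hle)))
    exact (((PrimeSpectrum.le_iff_specializes ⟨q, hq.1.1⟩ x).1 hqx)).mem_closed isClosed_closure
      (subset_closure hmem)
  · rw [IsLocallyConstant.iff_exists_open]
    rintro ⟨x, hx⟩
    obtain ⟨𝔭, hx𝔭⟩ := Set.mem_iUnion.1 hx
    refine ⟨Subtype.val ⁻¹' U 𝔭, (hU 𝔭).preimage continuous_subtype_val, hx𝔭, fun y hy => ?_⟩
    exact (hconst 𝔭 y.1 (hge 𝔭 _ hy) hy.1 p hp).trans (hconst 𝔭 x (hge 𝔭 _ hx𝔭) hx𝔭.1 p hp).symm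

end Groth.Agent.TFun
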