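import Groth.Agent.TFun.Flat
import Mathlib.RingTheory.Filtration

/-! Lifting along `A/𝔪^(n+1) → k` for all large `n` forces a free cokernel. -/

universe u

open CategoryTheory TensorProduct IsLocalRing Function

namespace Groth.Agent.TFun

variable {A : Type u} [CommRing A]

theorem range_lTensor_pow_le (I : Ideal A) (C : Type u) [AddCommGroup C] [Module A C] (n : ℕ)
    (h : I ^ (n + 1) ≤ I) :
    LinearMap.range ((Submodule.inclusion h).lTensor C) ≤
      I ^ n • (⊤ : Submodule A (C ⊗[A] I)) := by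
  rintro _ ⟨z, rfl⟩
  induction z using TensorProduct.induction_on with
  | zero => simp
  | add a b ha hb => rw [map_add]; exact add_mem ha hb
  | tmul c a =>
    obtain ⟨a, ha⟩ := a
    have key : ∀ a ∈ I ^ n * I, ∃ hI : a ∈ I, c ⊗ₜ[A] (⟨a, hI⟩ : I) ∈
        I ^ n • (⊤ : Submodule A (C ⊗[A] I)) := by
      intro a ha
      induction ha using Submodule.mul_induction_on' with
      | mem_mul_mem s hs t ht =>
        refine ⟨I.mul_mem_left s ht, ?_⟩
        rw [show (⟨s * t, I.mul_mem_left s ht⟩ : I) = s • (⟨t, ht⟩ : I) from rfl, tmul_smul]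
        exact Submodule.smul_mem_smul hs trivial
      | add x hx y hy ihx ihy =>
        obtain ⟨hx', ihx⟩ := ihx
        obtain ⟨hy', ihy⟩ := ihy
        refine ⟨add_mem hx' hy', ?_⟩
        rw [show (⟨x + y, add_mem hx' hy'⟩ : I) = ⟨x, hx'⟩ + ⟨y, hy'⟩ from rfl, tmul_add]
        exact add_mem ihx ihy
    obtain ⟨hI, hh⟩ := key a (pow_succ I n ▸ ha)
    exact hh

variable [IsNoetherianRing A] [IsLocalRing A] (P : ChainComplex (ModuleCat.{u} A) ℤ)

theorem preservesEpi_of_surjective_powers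
    (hP : ∀ i, Module.Finite A (P.X i) ∧ Module.Flat A (P.X i)) {p : ℤ} (n₀ : ℕ)
    (hn : ∀ n : ℕ, n₀ ≤ n → Surjective ((CohIII.TFun P p).map (ModuleCat.ofHom
      (Ideal.Quotient.factorₐ A (Ideal.pow_le_self (I := maximalIdeal A)
        (Nat.succ_ne_zero n))).toLinearMap :
      ModuleCat.of A (A ⧸ maximalIdeal A ^ (n + 1)) ⟶
        ModuleCat.of A (A ⧸ maximalIdeal A))).hom) :
    (CohIII.TFun P p).PreservesEpimorphisms := by
  obtain ⟨q, hpq⟩ : ∃ q, q + 1 = p := ⟨p - 1, sub_add_cancel p 1⟩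
  have := (hP p).1
  have := (hP q).1
  have := (hP q).2
  have : Module.Free A (P.X q) := Module.free_of_flat_of_isLocalRing
  have := finitePresentation_coker (P.d p q).hom
  rw [preservesEpi_iff P (fun i => (hP i).2) hpq]
  suffices Module.Free A (coker P p q) by infer_instance
  apply Module.free_of_maximalIdeal_rTensor_injective
  rw [← LinearMap.lTensor_inj_iff_rTensor_inj, injective_iff_map_eq_zero]
  intro x hx
  rw [← Submodule.mem_bot A, ← Ideal.iInf_pow_smul_eq_bot_of_isLocalRing (M := coker P p q ⊗[A] maximalIdeal A)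
    (I := maximalIdeal A) (IsLocalRing.maximalIdeal.isMaximal A).ne_top]
  refine Submodule.mem_iInf _ |>.2 fun i => ?_
  obtain ⟨n, hn0, hin⟩ : ∃ n, n₀ ≤ n ∧ i ≤ n := ⟨max n₀ i, le_max_left _ _, le_max_right _ _⟩
  refine Submodule.smul_mono_left (Ideal.pow_le_pow_right hin) ?_
  have hle : maximalIdeal A ^ (n + 1) ≤ maximalIdeal A := Ideal.pow_le_self n.succ_ne_zero
  refine range_lTensor_pow_le (maximalIdeal A) (coker P p q) n hle ?_
  let g := (Ideal.Quotient.factorₐ A hle).toLinearMap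
  have hg : Surjective g := Ideal.Quotient.factor_surjective hle
  have hinj : Injective ((LinearMap.ker g).subtype.lTensor (coker P p q)) :=
    injective_of_liftsAt _ _ (d_d P) g.exact_subtype_ker_map hg
      (Module.Flat.lTensor_preserves_injective_linearMap _ Subtype.val_injective)
      ((surjective_map_iff P (r := p + 1) rfl hpq _).1 (hn n hn0))
  let π : maximalIdeal A →ₗ[A] LinearMap.ker g :=
    LinearMap.codRestrict _ ((maximalIdeal A ^ (n + 1)).mkQ ∘ₗ (maximalIdeal A).subtype)
      (fun a => LinearMap.mem_ker.2 (Ideal.Quotient.eq_zero_iff_mem.2 a.2))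
  have hπ : Surjective π := by
    rintro ⟨z, hz⟩
    obtain ⟨a, rfl⟩ := Ideal.Quotient.mk_surjective z
    exact ⟨⟨a, Ideal.Quotient.eq_zero_iff_mem.1 hz⟩, rfl⟩
  have hex : Exact (Submodule.inclusion hle) π := by
    intro a
    constructor
    · intro ha
      exact ⟨⟨a, Ideal.Quotient.eq_zero_iff_mem.1 congr(($ha).1)⟩, rfl⟩
    · rintro ⟨b, rfl⟩
      exact Subtype.ext (Ideal.Quotient.eq_zero_iff_mem.2 b.2)
  refine (lTensor_exact _ hex hπ x).1 (hinj ?_)
  rw [← LinearMap.comp_apply, ← LinearMap.lTensor_comp, LinearMap.subtype_comp_codRestrict,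
    LinearMap.lTensor_comp, LinearMap.comp_apply, hx, map_zero, map_zero]

end Groth.Agent.TFun
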