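import Groth.Agent.TFun.Rank2
import Mathlib.Algebra.Homology.ShortComplex.HomologicalComplex

/-! Cochain complexes of finite free modules over a reduced ring. -/

universe u

open CategoryTheory CategoryTheory.Limits TensorProduct Function Topology Module

namespace Groth.Agent.TFun

/-- The homology of `X₁ → X₂ → X₃` inside `X₂ / im f`. -/
theorem exists_homology_to_coker {R : Type u} [CommRing R] (S : ShortComplex (ModuleCat.{u} R)) :
    ∃ j : S.homology →ₗ[R] (S.X₂ ⧸ LinearMap.range S.f.hom), Injective j ∧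
      LinearMap.range j = LinearMap.ker ((LinearMap.range S.f.hom).liftQ S.g.hom
        (LinearMap.range_le_ker_iff.2 (by rw [← ModuleCat.hom_comp, S.zero, ModuleCat.hom_zero]))) := by
  let e : S.homology ≃ₗ[R] (LinearMap.ker S.g.hom ⧸ LinearMap.range S.moduleCatToCycles) :=
    S.moduleCatHomologyIso.toLinearEquiv
  let j₀ : (LinearMap.ker S.g.hom ⧸ LinearMap.range S.moduleCatToCycles) →ₗ[R]
      (S.X₂ ⧸ LinearMap.range S.f.hom) :=
    (LinearMap.range S.moduleCatToCycles).mapQ (LinearMap.range S.f.hom)
      (LinearMap.ker S.g.hom).subtype (by rintro _ ⟨x, rfl⟩; exact ⟨x, rfl⟩)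
  have hj₀ : Injective j₀ := by
    rw [injective_iff_map_eq_zero]
    intro c hc
    obtain ⟨z, rfl⟩ := Submodule.Quotient.mk_surjective _ c
    obtain ⟨x, hx⟩ := (Submodule.Quotient.mk_eq_zero _).1 hc
    exact (Submodule.Quotient.mk_eq_zero _).2 ⟨x, Subtype.ext hx⟩
  refine ⟨j₀ ∘ₗ e.toLinearMap, fun a b hab => e.injective (hj₀ hab), ?_⟩
  · rw [LinearMap.range_comp, LinearEquiv.range, Submodule.map_top]
    ext c
    obtain ⟨x, rfl⟩ := Submodule.Quotient.mk_surjective _ c
    constructor
    · rintro ⟨y, hy⟩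
      obtain ⟨z, rfl⟩ := Submodule.Quotient.mk_surjective _ y
      rw [← hy]
      exact z.2
    · intro hx
      exact ⟨Submodule.Quotient.mk ⟨x, hx⟩, rfl⟩

theorem finrank_homology_shortComplex {κ : Type u} [Field κ] (S : ShortComplex (ModuleCat.{u} κ))
    [Module.Finite κ S.X₂] :
    finrank κ S.homology + finrank κ (LinearMap.range S.g.hom) =
      finrank κ (S.X₂ ⧸ LinearMap.range S.f.hom) := by
  obtain ⟨j, hj, hr⟩ := exists_homology_to_coker S
  have h0 : LinearMap.range S.f.hom ≤ LinearMap.ker S.g.hom :=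
    LinearMap.range_le_ker_iff.2 (by rw [← ModuleCat.hom_comp, S.zero, ModuleCat.hom_zero])
  have h := ((LinearMap.range S.f.hom).liftQ S.g.hom h0).finrank_range_add_finrank_ker
  rw [Submodule.range_liftQ, ← hr, LinearMap.finrank_range_of_inj hj] at h
  omega

variable {R : Type u} [CommRing R]

theorem finrank_bc_cochain_add_aux (P : CochainComplex (ModuleCat.{u} R) ℤ)
    (hfin : ∀ j, Module.Finite R (P.X j)) (i : ℤ) {κ : Type u} [Field κ] (φ : R →+* κ) :
    letI := φ.toAlgebra
    finrank κ ((((ModuleCat.extendScalars φ).mapHomologicalComplex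
          (ComplexShape.up ℤ)).obj P).homology i) + finrank κ (κ ⊗[R] P.X (i + 1)) =
      finrank κ (κ ⊗[R] (P.X i ⧸ LinearMap.range (P.d (i - 1) i).hom)) +
        finrank κ (κ ⊗[R] (P.X (i + 1) ⧸ LinearMap.range (P.d i (i + 1)).hom)) := by
  let := φ.toAlgebra
  let K := ((ModuleCat.extendScalars φ).mapHomologicalComplex (ComplexShape.up ℤ)).obj P
  have := hfin i
  have := hfin (i + 1)
  have hfin2 : Module.Finite κ (K.sc' (i - 1) i (i + 1)).X₂ :=
    inferInstanceAs (Module.Finite κ (κ ⊗[R] P.X i))
  have h0 := finrank_homology_shortComplex (K.sc' (i - 1) i (i + 1))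
  have e := (K.homologyIsoSc' (i - 1) i (i + 1) (by simp) (by simp)).toLinearEquiv.finrank_eq
  rw [← e] at h0
  have h1 := rank_baseChange_add (κ := κ) (P.d (i - 1) i).hom
  have h2 := rank_baseChange_add (κ := κ) (P.d i (i + 1)).hom
  have h3 := (LinearMap.range ((P.d (i - 1) i).hom.baseChange κ)).finrank_quotient_add_finrank
  change finrank κ (K.homology i) +
      finrank κ (LinearMap.range ((P.d i (i + 1)).hom.baseChange κ)) =
    finrank κ ((κ ⊗[R] P.X i) ⧸ LinearMap.range ((P.d (i - 1) i).hom.baseChange κ)) at h0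
  change finrank κ (K.homology i) + _ = _
  omega

theorem finrank_bc_cochain_add (P : CochainComplex (ModuleCat.{u} R) ℤ)
    (hfin : ∀ j, Module.Finite R (P.X j)) (i : ℤ) (x : PrimeSpectrum R) :
    finrank x.asIdeal.ResidueField ((((ModuleCat.extendScalars
        (algebraMap R x.asIdeal.ResidueField)).mapHomologicalComplex
          (ComplexShape.up ℤ)).obj P).homology i) + fibreDim (P.X (i + 1)) x =
      fibreDim (P.X i ⧸ LinearMap.range (P.d (i - 1) i).hom) x +
        fibreDim (P.X (i + 1) ⧸ LinearMap.range (P.d i (i + 1)).hom) x := by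
  have key : ∀ (a : Algebra R x.asIdeal.ResidueField) (φ : R →+* x.asIdeal.ResidueField),
      @algebraMap R x.asIdeal.ResidueField _ _ a = φ → a = φ.toAlgebra := by
    rintro a φ rfl
    exact Algebra.algebra_ext _ _ fun _ => rfl
  have h := finrank_bc_cochain_add_aux P hfin i (algebraMap R x.asIdeal.ResidueField)
  rw [← key _ _ rfl] at h
  exact h

theorem finite_projective_homology [IsReduced R] (P : CochainComplex (ModuleCat.{u} R) ℤ)
    (hP : ∀ j : ℤ, Module.Finite R (P.X j) ∧ Module.Free R (P.X j)) (i : ℤ)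
    (hconst : IsLocallyConstant fun p : PrimeSpectrum R =>
      Module.finrank p.asIdeal.ResidueField
        ((((ModuleCat.extendScalars (algebraMap R p.asIdeal.ResidueField)).mapHomologicalComplex
          (ComplexShape.up ℤ)).obj P).homology i)) :
    Module.Finite R (P.homology i) ∧ Module.Projective R (P.homology i) := by
  have := (hP i).1
  have := (hP i).2
  have := (hP (i + 1)).1
  have := (hP (i + 1)).2
  have := (hP (i - 1)).1
  let C := P.X i ⧸ LinearMap.range (P.d (i - 1) i).hom
  let C' := P.X (i + 1) ⧸ LinearMap.range (P.d i (i + 1)).hom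
  have hfpC : Module.FinitePresentation R C := finitePresentation_coker (P.d (i - 1) i).hom
  have hfpC' : Module.FinitePresentation R C' := finitePresentation_coker (P.d i (i + 1)).hom
  have : Module.FinitePresentation R (P.X (i + 1)) := Module.finitePresentation_of_projective R _
  have hlc : IsLocallyConstant (fibreDim (A := R) (P.X (i + 1))) :=
    isLocallyConstant_fibreDim_of_flat _
  have hsum : ∀ x, ∀ᶠ y in 𝓝 x,
      fibreDim C y + fibreDim C' y = fibreDim C x + fibreDim C' x := fun x => by
    filter_upwards [hconst.eventually_eq x, hlc.eventually_eq x] with y h1 h2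
    have k1 := finrank_bc_cochain_add P (fun j => (hP j).1) i x
    have k2 := finrank_bc_cochain_add P (fun j => (hP j).1) i y
    change fibreDim C y + fibreDim C' y = _
    simp only [C, C'] at *
    omega
  have hC : Module.Projective R C :=
    Module.freeLocus_eq_univ_iff.1 (freeLocus_eq_univ_of_fibreDim C
      ((IsLocallyConstant.iff_eventually_eq _).2 fun x => (eventually_eq_of_sum (hsum x)).1))
  have hC' : Module.Projective R C' :=
    Module.freeLocus_eq_univ_iff.1 (freeLocus_eq_univ_of_fibreDim C'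
      ((IsLocallyConstant.iff_eventually_eq _).2 fun x => (eventually_eq_of_sum (hsum x)).2))
  let B := LinearMap.range (P.d i (i + 1)).hom
  obtain ⟨s, hs⟩ := Module.projective_lifting_property B.mkQ LinearMap.id B.mkQ_surjective
  have hs' : ∀ c, B.mkQ (s c) = c := fun c => LinearMap.congr_fun hs c
  let π : P.X (i + 1) →ₗ[R] B := (LinearMap.id - s ∘ₗ B.mkQ).codRestrict B fun x => by
    rw [← Submodule.Quotient.mk_eq_zero]
    change B.mkQ (x - s (B.mkQ x)) = 0
    rw [map_sub, hs', sub_self]
  have hπ : π ∘ₗ B.subtype = LinearMap.id := LinearMap.ext fun b => Subtype.ext (by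
    change (b : P.X (i + 1)) - s (B.mkQ b) = b
    rw [show B.mkQ (b : P.X (i + 1)) = 0 from (Submodule.Quotient.mk_eq_zero B).2 b.2, map_zero,
      sub_zero])
  have hB : Module.Projective R B := Module.Projective.of_split B.subtype π hπ
  let S := P.sc' (i - 1) i (i + 1)
  have h0 : LinearMap.range (P.d (i - 1) i).hom ≤ LinearMap.ker (P.d i (i + 1)).hom :=
    LinearMap.range_le_ker_iff.2 (by rw [← ModuleCat.hom_comp, P.d_comp_d, ModuleCat.hom_zero])
  let g := (LinearMap.range (P.d (i - 1) i).hom).liftQ (P.d i (i + 1)).hom h0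
  let g' : C →ₗ[R] B := g.codRestrict B fun c => by
    obtain ⟨x, rfl⟩ := Submodule.Quotient.mk_surjective _ c
    exact ⟨x, rfl⟩
  have hg' : Surjective g' := by
    rintro ⟨_, x, rfl⟩
    exact ⟨Submodule.Quotient.mk x, rfl⟩
  obtain ⟨t, ht⟩ := Module.projective_lifting_property g' LinearMap.id hg'
  have hker : LinearMap.ker g = LinearMap.ker g' := by
    rw [LinearMap.ker_codRestrict]
  let ρ : C →ₗ[R] LinearMap.ker g' := (LinearMap.id - t ∘ₗ g').codRestrict _ fun c => by
    rw [LinearMap.mem_ker]
    change g' (c - t (g' c)) = 0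
    rw [map_sub, show g' (t (g' c)) = g' c from LinearMap.congr_fun ht _, sub_self]
  have hρ : ρ ∘ₗ (LinearMap.ker g').subtype = LinearMap.id := LinearMap.ext fun z => Subtype.ext (by
    change (z : C) - t (g' z) = z
    rw [LinearMap.mem_ker.1 z.2, map_zero, sub_zero])
  have hKp : Module.Projective R (LinearMap.ker g') := Module.Projective.of_split _ ρ hρ
  have hKf : Module.Finite R (LinearMap.ker g') := Module.Finite.of_surjective ρ fun z =>
    ⟨z.1, LinearMap.congr_fun hρ z⟩
  obtain ⟨j, hj, hr⟩ := exists_homology_to_coker S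
  let e : P.homology i ≃ₗ[R] LinearMap.ker g' :=
    ((P.homologyIsoSc' (i - 1) i (i + 1) (by simp) (by simp)).toLinearEquiv.trans
      ((LinearEquiv.ofInjective j hj).trans (LinearEquiv.ofEq _ _ hr))).trans
        (LinearEquiv.ofEq _ _ hker)
  exact ⟨Module.Finite.equiv e.symm, Module.Projective.of_equiv e.symm⟩

end Groth.Agent.TFun
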